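import Groth.Agent.VarietyB.ProjForm
import Groth.Agent.VarietyB.PullSec
import Groth.Agent.Ega1.TensorRestrict
import Groth.Agent.Ega2.TensLift
import Groth.Agent.Ega1.QcqsPush
import Groth.Agent.VarietyA.StalkCrit

/-!
# The projection map over the affine locus of a morphism

* `bijective_projMor_app`: for `E`, `G`, `f_* G` quasi-coherent, `V` and `f⁻¹ V` affine, the projection map
  `E ⊗ f_* G ⟶ f_* (f^* E ⊗ G)` is bijective on sections over `V`;
* `pj f G E : f_* G ⊗ E ⟶ f_* (G ⊗ f^* E)`, and the same for it;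
* `isIso_pj_of_isAffineHom`: the projection formula for affine morphisms.
-/

set_option autoImplicit false
universe u

open CategoryTheory CategoryTheory.Limits AlgebraicGeometry Opposite TopologicalSpace
open scoped TensorProduct

namespace K234.AffProj

section Alg

variable {A B : Type u} [CommRing A] [CommRing B] [Algebra A B] {E E' G : Type u} [AddCommGroup E] [Module A E]
  [AddCommGroup E'] [Module A E'] [Module B E'] [IsScalarTower A B E'] [AddCommGroup G] [Module A G] [Module B G]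
  [IsScalarTower A B G]

theorem bijective_of_isBaseChange (s : E →ₗ[A] E') (hs : IsBaseChange B s) (φ : E ⊗[A] G →+ E' ⊗[B] G)
    (hφ : ∀ e g, φ (e ⊗ₜ g) = s e ⊗ₜ g) : Function.Bijective φ := by
  let ψ : E' ⊗[B] G ≃+ E ⊗[A] G :=
    ((TensorProduct.comm B E' G).toAddEquiv.trans
      (TensorProduct.congr (LinearEquiv.refl B G) hs.equiv.symm).toAddEquiv).trans
      ((TensorProduct.AlgebraTensorModule.cancelBaseChange A B B G E).toAddEquiv.trans
        (TensorProduct.comm A G E).toAddEquiv)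
  have h1 : ∀ e g, ψ (s e ⊗ₜ g) = e ⊗ₜ g := by
    intro e g
    have h2 : hs.equiv.symm (s e) = 1 ⊗ₜ e := by
      rw [LinearEquiv.symm_apply_eq, hs.equiv_tmul, one_smul]
    change (TensorProduct.comm A G E) (TensorProduct.AlgebraTensorModule.cancelBaseChange A B B G E
      (g ⊗ₜ hs.equiv.symm (s e))) = _
    rw [h2, TensorProduct.AlgebraTensorModule.cancelBaseChange_tmul, one_smul]
    rfl
  have h3 : ψ.toAddMonoidHom.comp φ = AddMonoidHom.id _ := by
    ext x
    induction x using TensorProduct.induction_on with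
    | zero => simp
    | tmul e g =>
      change ψ (φ (e ⊗ₜ g)) = e ⊗ₜ g
      rw [hφ, h1]
    | add x y hx hy => rw [map_add, hx, hy, map_add]
  have h4 : Function.Bijective (ψ ∘ φ) := by
    have : (ψ ∘ φ : E ⊗[A] G → E ⊗[A] G) = id := funext fun x => DFunLike.congr_fun h3 x
    rw [this]; exact Function.bijective_id
  exact (Function.Bijective.of_comp_iff' ψ.bijective φ).1 h4

end Alg

open Groth.Agent.VarietyB Groth.Agent.VarietyB.ProjForm Groth.Agent.Ega1.TensorRestrict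
open Groth.Agent.Fdesc.LocGen (pullSec)

variable {X Y : Scheme.{u}} (f : X ⟶ Y) (E : Y.Modules) (G : X.Modules)

theorem toT_tmul {X : Scheme.{u}} (M N : X.Modules) (U : X.Opens) (m : Γ(M, U)) (n : Γ(N, U)) :
    toT M N U (m ⊗ₜ n) = Groth.Agent.Ega2.Tens.tmul m n := rfl

theorem exists_phi {V : Y.Opens} : ∃ φ : PT E ((Scheme.Modules.pushforward f).obj G) V →+
    PT ((Scheme.Modules.pullback f).obj E) G (f ⁻¹ᵁ V),
    ∀ (e : Γ(E, V)) (g : Γ(G, f ⁻¹ᵁ V)),
      φ (e ⊗ₜ[Γ(Y, V)] (show Γ((Scheme.Modules.pushforward f).obj G, V) from g)) = pullSec f e ⊗ₜ g := by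
  refine ⟨TensorProduct.liftAddHom
    { toFun := fun e =>
        { toFun := fun g => (pullSec f e : Γ((Scheme.Modules.pullback f).obj E, f ⁻¹ᵁ V)) ⊗ₜ[Γ(X, f ⁻¹ᵁ V)]
            (show Γ(G, f ⁻¹ᵁ V) from g)
          map_zero' := TensorProduct.tmul_zero _ _
          map_add' := fun g g' => TensorProduct.tmul_add _ _ _ }
      map_zero' := by
        ext g
        change pullSec f (0 : Γ(E, V)) ⊗ₜ[Γ(X, f ⁻¹ᵁ V)] (show Γ(G, f ⁻¹ᵁ V) from g) = 0
        rw [show pullSec f (0 : Γ(E, V)) = 0 from map_zero _, TensorProduct.zero_tmul]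
      map_add' := fun e e' => by
        ext g
        change pullSec f (e + e') ⊗ₜ[Γ(X, f ⁻¹ᵁ V)] (show Γ(G, f ⁻¹ᵁ V) from g) =
          pullSec f e ⊗ₜ[Γ(X, f ⁻¹ᵁ V)] (show Γ(G, f ⁻¹ᵁ V) from g) +
          pullSec f e' ⊗ₜ[Γ(X, f ⁻¹ᵁ V)] (show Γ(G, f ⁻¹ᵁ V) from g)
        rw [Groth.Agent.Fdesc.LocGen.pullSec_add, TensorProduct.add_tmul] }
    (fun r e g => ?_), fun e g => rfl⟩
  change pullSec f (r • e) ⊗ₜ[Γ(X, f ⁻¹ᵁ V)] (show Γ(G, f ⁻¹ᵁ V) from g) =
    pullSec f e ⊗ₜ[Γ(X, f ⁻¹ᵁ V)] (f.app V r • (show Γ(G, f ⁻¹ᵁ V) from g))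
  rw [Groth.Agent.Fdesc.LocGen.pullSec_smul, TensorProduct.smul_tmul]

theorem bijective_phi (hE : Coh.IsQCoh E) {V : Y.Opens} (hV : IsAffineOpen V) (hW : IsAffineOpen (f ⁻¹ᵁ V))
    (φ : PT E ((Scheme.Modules.pushforward f).obj G) V →+ PT ((Scheme.Modules.pullback f).obj E) G (f ⁻¹ᵁ V))
    (hφ : ∀ (e : Γ(E, V)) (g : Γ(G, f ⁻¹ᵁ V)),
      φ (e ⊗ₜ[Γ(Y, V)] (show Γ((Scheme.Modules.pushforward f).obj G, V) from g)) = pullSec f e ⊗ₜ g) :
    Function.Bijective φ := by
  let j1 : Algebra Γ(Y, V) Γ(X, f ⁻¹ᵁ V) := (f.appLE V (f ⁻¹ᵁ V) le_rfl).hom.toAlgebra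
  let j2 := PullSec.secModule f E (U := V) (V := f ⁻¹ᵁ V) le_rfl
  have j3 : IsScalarTower Γ(Y, V) Γ(X, f ⁻¹ᵁ V) Γ((Scheme.Modules.pullback f).obj E, f ⁻¹ᵁ V) :=
    ⟨fun a b c => by rw [Algebra.smul_def, mul_smul]; rfl⟩
  have hb : IsBaseChange Γ(X, f ⁻¹ᵁ V) (PullSec.secₗ f E (U := V) (V := f ⁻¹ᵁ V) le_rfl) :=
    PullSec.isBaseChange_secₗ f E le_rfl hE hV hW
  let k1 : Module Γ(X, f ⁻¹ᵁ V) Γ((Scheme.Modules.pushforward f).obj G, V) :=
    inferInstanceAs (Module Γ(X, f ⁻¹ᵁ V) Γ(G, f ⁻¹ᵁ V))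
  have hk : ∀ (a : Γ(Y, V)) (c : Γ((Scheme.Modules.pushforward f).obj G, V)),
      a • c = (show Γ(X, f ⁻¹ᵁ V) from f.appLE V (f ⁻¹ᵁ V) le_rfl a) • c := by
    intro a c
    rw [Scheme.Hom.appLE_eq_app]
    rfl
  have k2 : IsScalarTower Γ(Y, V) Γ(X, f ⁻¹ᵁ V) Γ((Scheme.Modules.pushforward f).obj G, V) :=
    ⟨fun a b c => by
      rw [Algebra.smul_def, mul_smul]
      exact (hk a (b • c)).symm⟩
  refine @bijective_of_isBaseChange Γ(Y, V) Γ(X, f ⁻¹ᵁ V) _ _ j1 Γ(E, V) Γ((Scheme.Modules.pullback f).obj E, f ⁻¹ᵁ V)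
    Γ((Scheme.Modules.pushforward f).obj G, V) _ _ _ j2 _ j3 _ _ k1 k2
    (PullSec.secₗ f E (U := V) (V := f ⁻¹ᵁ V) le_rfl) hb φ ?_
  intro e g
  refine (hφ e g).trans ?_
  have h1 : PullSec.secₗ f E (U := V) (V := f ⁻¹ᵁ V) le_rfl e = pullSec f e := by
    change ((Scheme.Modules.pullback f).obj E).presheaf.map (homOfLE le_rfl).op (pullSec f e) = pullSec f e
    exact congr($(((Scheme.Modules.pullback f).obj E).presheaf.map_id (op (f ⁻¹ᵁ V))) (pullSec f e))
  rw [h1]
  rfl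

/-- **Projection formula on sections.** -/
theorem bijective_projMor_app (hE : Coh.IsQCoh E) (hG : Coh.IsQCoh G)
    (hfG : Coh.IsQCoh ((Scheme.Modules.pushforward f).obj G)) {V : Y.Opens} (hV : IsAffineOpen V)
    (hW : IsAffineOpen (f ⁻¹ᵁ V)) : Function.Bijective ((projMor f E G).app V) := by
  obtain ⟨φ, hφ⟩ := exists_phi f E G (V := V)
  have h1 := bijective_toT E ((Scheme.Modules.pushforward f).obj G) hE hfG hV
  have h2 := bijective_toT ((Scheme.Modules.pullback f).obj E) G (PullSec.isQCoh_pullback f E hE) hG hW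
  have h3 := bijective_phi f E G hE hV hW φ hφ
  have h4 : ∀ x : PT E ((Scheme.Modules.pushforward f).obj G) V,
      (projMor f E G).app V (toT E ((Scheme.Modules.pushforward f).obj G) V x) =
        toT ((Scheme.Modules.pullback f).obj E) G (f ⁻¹ᵁ V) (φ x) := by
    intro x
    induction x using TensorProduct.induction_on with
    | zero => simp only [map_zero]; rfl
    | tmul e g =>
      refine (congrArg ((projMor f E G).app V) (toT_tmul _ _ _ e g)).trans ?_
      refine (projMor_tmul f E G e g).trans ?_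
      exact (congrArg (toT ((Scheme.Modules.pullback f).obj E) G (f ⁻¹ᵁ V)) (hφ e g)).symm
    | add x y hx hy =>
      rw [map_add, map_add, map_add, hx, hy, map_add]
      rfl
  have h5 : Function.Bijective ((projMor f E G).app V ∘ toT E ((Scheme.Modules.pushforward f).obj G) V) := by
    have h6 : ((projMor f E G).app V ∘ toT E ((Scheme.Modules.pushforward f).obj G) V) =
        fun x => toT ((Scheme.Modules.pullback f).obj E) G (f ⁻¹ᵁ V) (φ x) := funext h4
    rw [h6]
    exact h2.comp h3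
  exact (Function.Bijective.of_comp_iff _ h1).1 h5

/-- The projection map `f_* G ⊗ E ⟶ f_* (G ⊗ f^* E)`. -/
noncomputable def pj : CohB1.tensorMod ((Scheme.Modules.pushforward f).obj G) E ⟶
    (Scheme.Modules.pushforward f).obj (CohB1.tensorMod G ((Scheme.Modules.pullback f).obj E)) :=
  (Groth.Agent.Ega2.Tens.swap _ _).hom ≫ projMor f E G ≫
    (Scheme.Modules.pushforward f).map (Groth.Agent.Ega2.Tens.swap _ _).hom

theorem bijective_pj_app (hE : Coh.IsQCoh E) (hG : Coh.IsQCoh G)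
    (hfG : Coh.IsQCoh ((Scheme.Modules.pushforward f).obj G)) {V : Y.Opens} (hV : IsAffineOpen V)
    (hW : IsAffineOpen (f ⁻¹ᵁ V)) : Function.Bijective ((pj f E G).app V) := by
  have h1 : Function.Bijective ((Groth.Agent.Ega2.Tens.swap ((Scheme.Modules.pushforward f).obj G) E).hom.app V) :=
    (ConcreteCategory.isIso_iff_bijective _).mp inferInstance
  have h2 : Function.Bijective (((Scheme.Modules.pushforward f).map
      (Groth.Agent.Ega2.Tens.swap ((Scheme.Modules.pullback f).obj E) G).hom).app V) :=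
    (ConcreteCategory.isIso_iff_bijective _).mp inferInstance
  exact h2.comp ((bijective_projMor_app f E G hE hG hfG hV hW).comp h1)

/-- bijectivity on stalks from bijectivity on small affine opens -/
theorem bijective_stalkLin {M N : Y.Modules} (φ : M ⟶ N) (y : Y) (U : Y.Opens) (hy : y ∈ U)
    (h : ∀ V : Y.Opens, IsAffineOpen V → V ≤ U → Function.Bijective (φ.app V)) :
    Function.Bijective (Groth.Agent.CycB.StalkExact.stalkLin φ y) := by
  constructor
  · rw [injective_iff_map_eq_zero]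
    intro m hm
    obtain ⟨V, hxV, hVU, s, rfl⟩ := ExactLoc.exists_germ_le M hy m
    obtain ⟨V', hV', hxV', hVV''⟩ := exists_isAffineOpen_mem_and_subset (x := y) (U := V) hxV
    have hVV' : V' ≤ V := hVV''
    have hs : M.presheaf.germ V y hxV s = M.presheaf.germ V' y hxV' (TensLoc.res M hVV' s) :=
      (ExactLoc.germ_res M hVV' hxV' s).symm
    rw [hs] at hm ⊢
    rw [Groth.Agent.CycB.StalkExact.stalkLin_germ] at hm
    obtain ⟨W, hWV, hxW, hW⟩ := ExactLoc.exists_res_eq_zero N hxV' _ hm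
    obtain ⟨W', hW', hxW', hWW''⟩ := exists_isAffineOpen_mem_and_subset (x := y) (U := W) hxW
    have hWW' : W' ≤ W := hWW''
    have h1 : φ.app W' (TensLoc.res M (hWW'.trans hWV) (TensLoc.res M hVV' s)) = 0 := by
      have h2 : TensLoc.res N (hWW'.trans hWV) (φ.app V' (TensLoc.res M hVV' s)) =
          φ.app W' (TensLoc.res M (hWW'.trans hWV) (TensLoc.res M hVV' s)) := (TensLoc.app_res _ _ _).symm
      rw [← h2]
      have h3 : TensLoc.res N (hWW'.trans hWV) (φ.app V' (TensLoc.res M hVV' s)) =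
          TensLoc.res N hWW' (TensLoc.res N hWV (φ.app V' (TensLoc.res M hVV' s))) :=
        (TensLoc.res_res N _ _ _).symm
      rw [h3]
      exact (congrArg (TensLoc.res N hWW') hW).trans (map_zero _)
    have h4 := (h W' hW' (((hWW'.trans hWV).trans hVV').trans hVU)).1 (h1.trans (map_zero _).symm)
    have h5 := (ExactLoc.germ_res M (hWW'.trans hWV) hxW' (TensLoc.res M hVV' s)).symm
    rw [h5, h4, map_zero]
  · intro n
    obtain ⟨V, hxV, hVU, s, rfl⟩ := ExactLoc.exists_germ_le N hy n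
    obtain ⟨V', hV', hxV', hVV''⟩ := exists_isAffineOpen_mem_and_subset (x := y) (U := V) hxV
    have hVV' : V' ≤ V := hVV''
    obtain ⟨t, ht⟩ := (h V' hV' (hVV'.trans hVU)).2 (TensLoc.res N hVV' s)
    refine ⟨M.presheaf.germ V' y hxV' t, ?_⟩
    rw [Groth.Agent.CycB.StalkExact.stalkLin_germ, ht]
    exact ExactLoc.germ_res N hVV' hxV' s

theorem bijective_stalkLin_pj [QuasiCompact f] [QuasiSeparated f] (hE : Coh.IsQCoh E) (hG : Coh.IsQCoh G) (y : Y)
    (U : Y.Opens) (hy : y ∈ U) (h : ∀ V : Y.Opens, IsAffineOpen V → V ≤ U → IsAffineOpen (f ⁻¹ᵁ V)) :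
    Function.Bijective (Groth.Agent.CycB.StalkExact.stalkLin (pj f E G) y) :=
  bijective_stalkLin _ y U hy fun V hV hVU =>
    bijective_pj_app f E G hE hG (Groth.Agent.Ega1.QcqsPush.isQCoh_pushforward f G hG) hV (h V hV hVU)

/-- **Projection formula for affine morphisms.** -/
theorem isIso_pj [IsAffineHom f] (hE : Coh.IsQCoh E) (hG : Coh.IsQCoh G) : IsIso (pj f E G) :=
  Groth.Agent.VarietyA.StalkCrit.isIso_of_stalks _ fun y =>
    bijective_stalkLin_pj f E G hE hG y ⊤ trivial fun _ hV _ => hV.preimage f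

end K234.AffProj
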