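import Groth.Agent.ResProp.K234.TopVan
import Groth.Agent.ResProp.K234.AffProj
import Groth.Agent.CohqA.DirectSum
import Groth.Agent.CohqB.QC7
import Groth.Agent.Ega2.GlobGenCrit
import Groth.Agent.Ega3B.PullTensor
import Groth.Agent.PerfA.QCohSerre
import Groth.Agent.Dcoh.StalkT
import Groth.Agent.Dcoh.DerSch
import Groth.Agent.Ega3B.RpushAff
import Groth.Agent.Ega3B.RpushAbCmp
import Groth.Agent.Flat2D.LocalGlobalH
import Groth.Agent.Fdesc.StructMod
import Groth.Agent.Flat2G.FibDimVanish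
import Groth.Agent.Ega1.TensorRestrict
import Groth.Agent.Flat2H.RelAmpleBasic
import Groth.Agent.FormalA.PullbackQC
import Groth.Agent.TopDim.K284.Basic
import Groth.Agent.S10860
import Groth.Agent.S2297

/-!
# Top cohomology and the projection formula along a proper generically finite morphism

`f : Y ⟶ X` proper, `X` Noetherian of dimension `≤ d`, with `dim {x | dim Y_x ≥ j} < d - j` for all `j ≥ 1`.

* `claimA`: `H^n(X, f_* M ⊗ E) = 0` implies `H^n(Y, M ⊗ f^* E) = 0`, `n ≥ d`;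
* `claimB`: conversely if `R^q f_* M = 0` for `q ≥ 1`.
-/

set_option autoImplicit false
universe u

open CategoryTheory Limits Opposite TopologicalSpace AlgebraicGeometry
open Groth.Agent Groth.Agent.VarietyA.StalkCrit Groth.Agent.CycB.StalkExact
open K234.DimProper K234.TopVan K234.AffProj

namespace K234.Claims

theorem isCoh_tensor {X : Scheme.{u}} {M N : X.Modules} (hM : Coh.IsCoh M) (hN : Coh.IsCoh N) :
    Coh.IsCoh (CohB1.tensorMod M N) := by
  have h1 : Coh.IsQCoh M := hM.1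
  have h2 : Coh.IsQCoh N := hN.1
  exact ⟨(Groth.Agent.S2297.result M N).1, (Groth.Agent.S2297.result M N).2 hM.2 hN.2⟩

/-- A quasi-coherent module on an affine scheme is a quotient of a free module. -/
theorem exists_epi_sigma {X : Scheme.{u}} [IsAffine X] {M : X.Modules} (hM : Coh.IsQCoh M) :
    ∃ (ι : Type u) (p : (∐ fun _ : ι => Coh.structureModule X) ⟶ M), Epi p := by
  refine ⟨Γ(M, ⊤), Ega2.GlobGenCrit.desc (fun k => Fdesc.LocGen.homOf k), ?_⟩
  refine Ega2.GlobGenCrit.epi_desc_of_span hM (fun _ : Unit => (⊤ : X.Opens)) (fun _ => isAffineOpen_top X)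
    (by simp) _ fun _ => ?_
  rw [eq_top_iff]
  intro x _
  refine Submodule.subset_span ⟨x, ?_⟩
  refine (Fdesc.LocGen.sec_homOf x _).trans ?_
  exact Fdesc.LocGen.res_refl _ _

theorem isQCoh_sigma {X : Scheme.{u}} (ι : Type u) : Coh.IsQCoh (∐ fun _ : ι => Coh.structureModule X) :=
  CohqB.QC7.isQCoh_coproduct _ fun _ => (Fdesc.StructMod.isCoh_structureModule X).1

/-- `M ⊗ g^*(∐ O) ≅ ∐ M`. -/
theorem nonempty_tensorSigmaIso {V W : Scheme.{u}} (g : W ⟶ V) (M : W.Modules) (ι : Type u) :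
    Nonempty (CohB1.tensorMod M ((Scheme.Modules.pullback g).obj (∐ fun _ : ι => Coh.structureModule V)) ≅
      ∐ fun _ : ι => M) := by
  obtain ⟨e0⟩ := Ega3B.PullTensor.nonempty_pullUnitIso g
  have hc : PreservesColimitsOfSize.{u, u} ((DCoh.tensorBi (X := W)).obj M) := inferInstance
  exact ⟨((DCoh.tensorBi (X := W)).obj M).mapIso
      (PreservesCoproduct.iso (Scheme.Modules.pullback g) (fun _ : ι => Coh.structureModule V)
        ≪≫ Sigma.mapIso (fun _ : ι => e0)) ≪≫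
      PreservesCoproduct.iso ((DCoh.tensorBi (X := W)).obj M) (fun _ : ι => Coh.structureModule W) ≪≫
      Sigma.mapIso (fun _ : ι => Ega2.Tens.runit M)⟩

/-- Vanishing over an affine base. -/
theorem HH_tensor_affine {V W : Scheme.{u}} (g : W ⟶ V) [IsProper g] [IsAffine V] (q : ℕ)
    (hd : ∀ y : V, topologicalKrullDim ↥(g.fiber y) ≤ q) (M : W.Modules) (hM : Coh.IsQCoh M)
    (h : Subsingleton (Coh.HH W M q)) (K : V.Modules) (hK : Coh.IsQCoh K) :
    Subsingleton (Coh.HH W (CohB1.tensorMod M ((Scheme.Modules.pullback g).obj K)) q) := by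
  have : CompactSpace W := QuasiCompact.compactSpace_of_compactSpace g
  have : QuasiSeparatedSpace W := quasiSeparatedSpace_of_quasiSeparated g
  obtain ⟨ι, p, hp⟩ := exists_epi_sigma hK
  let T := Scheme.Modules.pullback g ⋙ (DCoh.tensorBi (X := W)).obj M
  have hT : Epi (T.map p) := inferInstance
  obtain ⟨e⟩ := nonempty_tensorSigmaIso g M ι
  have h1 : Subsingleton (Coh.HH W (T.obj (∐ fun _ : ι => Coh.structureModule V)) q) :=
    HH_iso e.symm q (CohqA.DirectSum.subsingleton_coproduct _ q fun _ => h)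
  have hq1 : Coh.IsQCoh (T.obj (∐ fun _ : ι => Coh.structureModule V)) :=
    Ega1.TensorRestrict.isQCoh_tensorMod _ _ hM (FormalA.PullbackQC.isQCoh_pullback _ _ (isQCoh_sigma ι))
  have hq2 : Coh.IsQCoh (T.obj K) :=
    Ega1.TensorRestrict.isQCoh_tensorMod _ _ hM (FormalA.PullbackQC.isQCoh_pullback _ _ hK)
  have hq3 : Coh.IsQCoh (kernel (T.map p)) := PerfA.QCohSerre.isQCoh_kernel _ hq1 hq2
  exact right (shortExact_kernel (T.map p)) q h1
    (Flat2G.FibDimVanish.subsingleton_HH g q hd _ hq3 (q + 1) (Nat.lt_succ_self q))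

variable {X Y : Scheme.{u}} (f : Y ⟶ X)

/-- The fibres of the restriction of `f` over an open set. -/
theorem dim_fiber_restrict_le (W : X.Opens) (q : ℕ) (h : ∀ x ∈ W, topologicalKrullDim ↥(f.fiber x) ≤ q) (y : W) :
    topologicalKrullDim ↥((f ∣_ W).fiber y) ≤ q := by
  refine le_trans ?_ (h y.1 y.2)
  rw [FlatA.FibreDim.topologicalKrullDim_fiber_eq f]
  refine (FlatA.FibreDim.topologicalKrullDim_fiber_eq (f ∣_ W) y).trans_le ?_
  have h0 : ∀ z : ((f ∣_ W : _ → _) ⁻¹' {y}), z.1.1 ∈ (f : Y → X) ⁻¹' {y.1} := fun z => by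
    exact (morphismRestrict_base_coe f W z.1).symm.trans (congrArg Subtype.val (show (f ∣_ W) z.1 = y from z.2))
  have hi : Topology.IsInducing (fun z : ((f ∣_ W : _ → _) ⁻¹' {y}) => (⟨z.1.1, h0 z⟩ : (f : Y → X) ⁻¹' {y.1})) :=
    (Topology.IsInducing.subtypeVal.comp Topology.IsInducing.subtypeVal).codRestrict _
  exact hi.topologicalKrullDim_le

/-- The restriction of `M ⊗ f^* K` over an open set. -/
theorem nonempty_restrict_tensor (W : X.Opens) (M : Y.Modules) (K : X.Modules) :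
    Nonempty (CohB1.tensorMod (M.restrict (f ⁻¹ᵁ W).ι) ((Scheme.Modules.pullback (f ∣_ W)).obj (K.restrict W.ι)) ≅
      (CohB1.tensorMod M ((Scheme.Modules.pullback f).obj K)).restrict (f ⁻¹ᵁ W).ι) :=
  ⟨Ega2.Tens.mapTIso (Iso.refl _) (Flat2H.RelAmpleBasic.pullbackRestrictIso f K W).symm ≪≫
    Ega1.TensorRestrict.tensorRestrictIso _ _ _⟩

/-- `R^{q+1} f_*(M ⊗ f^* K)` lives on the points with fibre dimension `> q + 1`, if `R^{q+1} f_* M = 0`. -/
theorem stalk_zero [IsProper f] [IsLocallyNoetherian X] (M : Y.Modules) (hM : Coh.IsQCoh M) (q : ℕ)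
    (hv : IsZero ((Coh.RpushAb f (q + 1)).obj (Coh.toAb M))) (K : X.Modules) (hK : Coh.IsQCoh K)
    (x : X) (hx : x ∉ fibLocus f (q + 2)) :
    Subsingleton (CohTop.stalk (X := X.toTopCat) ((CohTop.Rpush (X := Y.toTopCat) (Y := X.toTopCat) f.base (q + 1)).obj
      (Coh.toAb (CohB1.tensorMod M ((Scheme.Modules.pullback f).obj K)))) x) := by
  refine AddCommGrpCat.subsingleton_of_isZero
    (CohqB.RpushStalk.isZero_stalk_Rpush (X := Y.toTopCat) (Y := X.toTopCat) f.base _ (q + 1) x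
      fun V hyV ξ => ?_)
  let U : X.Opens := ⟨(fibLocus f (q + 2))ᶜ, (isClosed_fibLocus f (q + 2)).isOpen_compl⟩
  obtain ⟨W, hW, hyW, hWV⟩ := exists_isAffineOpen_mem_and_subset (X := X) (x := x) (U := V ⊓ U) ⟨hyV, hx⟩
  refine ⟨W, fun z hz => (hWV hz).1, hyW, ?_⟩
  have : IsAffine W.toScheme := hW
  have hdim : ∀ y : W, topologicalKrullDim ↥((f ∣_ W).fiber y) ≤ ((q + 1 : ℕ) : WithBot ℕ∞) :=
    dim_fiber_restrict_le f W (q + 1) fun x hx => dim_fiber_le f (j := q + 1) (hWV hx).2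
  have hinj : HasInjectiveResolutions Y.Modules := Dcoh.DerSch.hasInjectiveResolutions Y
  have h00 : Subsingleton (Coh.HHon Y M (f ⁻¹ᵁ W) (q + 1)) :=
    Ega3B.RpushAff.subsingleton_HHon_of_isZero f M hM hW (q + 1) ((Ega3B.RpushAbCmp.isZero_RpushAb_iff f M (q + 1)).1 hv)
  have h0 : Subsingleton (Coh.HH _ (M.restrict (f ⁻¹ᵁ W).ι) (q + 1)) :=
    (Flat2D.LocalGlobalH.HU_iff_restrict (f ⁻¹ᵁ W).ι M (f ⁻¹ᵁ W) (by simp) (q + 1)).1
      ((Flat2D.LocalGlobalH.HU_iff_HHon M (f ⁻¹ᵁ W) (q + 1)).2 h00)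
  have h1 := HH_tensor_affine (f ∣_ W) (q + 1) hdim (M.restrict (f ⁻¹ᵁ W).ι)
    (CohqB.LocalQC.isQCoh_restrict _ hM) h0 (K.restrict W.ι) (CohqB.LocalQC.isQCoh_restrict _ hK)
  obtain ⟨e⟩ := nonempty_restrict_tensor f W M K
  have h2 := (Flat2D.LocalGlobalH.HU_iff_restrict (f ⁻¹ᵁ W).ι
    (CohB1.tensorMod M ((Scheme.Modules.pullback f).obj K)) (f ⁻¹ᵁ W) (by simp) (q + 1)).2 (HH_iso e _ h1)
  exact @Subsingleton.elim _ h2 _ _

section

variable [IsProper f] [IsLocallyNoetherian X]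

omit [IsLocallyNoetherian X] in
/-- Over the points with finite fibre the morphism is finite. -/
theorem exists_finite_nhd (x : X) (hx : x ∉ fibLocus f 1) :
    ∃ U : X.Opens, x ∈ U ∧ IsFinite (f ∣_ U) := by
  obtain ⟨U, hU, hfin⟩ := Groth.Agent.S10860.result f
  refine ⟨U, ?_, hfin⟩
  have h1 : topologicalKrullDim ↥(f.fiber x) ≤ ((0 : ℕ) : WithBot ℕ∞) := dim_fiber_le f hx
  have hft : LocallyOfFiniteType (f.fiberToSpecResidueField x) := 
    inferInstanceAs (LocallyOfFiniteType (pullback.snd f (X.fromSpecResidueField x)))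
  have hN : IsLocallyNoetherian (f.fiber x) :=
    LocallyOfFiniteType.isLocallyNoetherian (f.fiberToSpecResidueField x)
  have hN' : IsNoetherian (f.fiber x) := { }
  have h2 : Finite (f.fiber x) := (K284.TopDim.finite_discrete_of_dim_le_zero h1).1
  rw [← SetLike.mem_coe, hU]
  have h3 : Finite ((f : Y → X) ⁻¹' {x}) := Finite.of_equiv _ (f.fiberHomeo x).toEquiv
  exact Set.toFinite _

omit [IsProper f] [IsLocallyNoetherian X] in
theorem isAffineOpen_preimage_of_restrict (U : X.Opens) (hf : IsAffineHom (f ∣_ U)) {V : X.Opens} (hV : IsAffineOpen V)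
    (hVU : V ≤ U) : IsAffineOpen (f ⁻¹ᵁ V) := by
  have h1 : IsAffineOpen ((f ∣_ U) ⁻¹ᵁ (U.ι ⁻¹ᵁ V)) := by
    refine IsAffineOpen.preimage ?_ (f ∣_ U)
    exact hV.preimage_of_isOpenImmersion U.ι (by simpa using hVU)
  have h2 := h1.image_of_isOpenImmersion (f ⁻¹ᵁ U).ι
  rw [image_morphismRestrict_preimage] at h2
  have h3 : U.ι ''ᵁ (U.ι ⁻¹ᵁ V) = V := by
    rw [Scheme.Hom.image_preimage_eq_opensRange_inf]
    simpa using hVU
  rwa [h3] at h2

/-- Off `fibLocus f 1` the projection formula holds. -/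
theorem bijective_pj (E : X.Modules) (M : Y.Modules) (hE : Coh.IsQCoh E) (hM : Coh.IsQCoh M) (x : X)
    (hx : x ∉ fibLocus f 1) : Function.Bijective (stalkLin (pj f E M) x) := by
  obtain ⟨U, hxU, hfin⟩ := exists_finite_nhd f x hx
  exact bijective_stalkLin_pj f E M hE hM x U hxU fun V hV hVU =>
    isAffineOpen_preimage_of_restrict f U inferInstance hV hVU

variable (d : ℕ) (hdim : ∀ j, 1 ≤ j → DimLt (fibLocus f j) (d - j))
  (E : X.Modules) (M : Y.Modules) (hE : Coh.IsCoh E) (hM : Coh.IsCoh M)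

include hdim hE hM in
theorem small_kernel : Small (kernel (pj f E M)) (d - 1) :=
  ⟨fibLocus f 1, isClosed_fibLocus f 1, hdim 1 le_rfl, fun x hx =>
    (subsingleton_kernel_stalk_iff _ x).2 (bijective_pj f E M hE.1 hM.1 x hx).1⟩

include hdim hE hM in
theorem small_cokernel : Small (cokernel (pj f E M)) (d - 1) :=
  ⟨fibLocus f 1, isClosed_fibLocus f 1, hdim 1 le_rfl, fun x hx =>
    (subsingleton_cokernel_stalk_iff _ x).2 (bijective_pj f E M hE.1 hM.1 x hx).2⟩

end

variable [IsProper f] [IsNoetherian X] (d : ℕ) (hdim : ∀ j, 1 ≤ j → DimLt (fibLocus f j) (d - j))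
  (E : X.Modules) (M : Y.Modules) (hE : Coh.IsCoh E) (hM : Coh.IsCoh M) (n : ℕ) (hn : d ≤ n)

include hdim hE hM hn

/-- `H^n(X, f_* M ⊗ E) = 0` implies `H^n(Y, M ⊗ f^* E) = 0`. -/
theorem claimA (h : Subsingleton (Coh.HH X (CohB1.tensorMod ((Coh.push f).obj M) E) n)) :
    Subsingleton (Coh.HH Y (CohB1.tensorMod M ((Scheme.Modules.pullback f).obj E)) n) := by
  have hN : IsLocallyNoetherian Y := LocallyOfFiniteType.isLocallyNoetherian f
  refine leray_top f d hdim (isCoh_tensor hM (FormalA.PullbackQC.isCoh_pullback f E hE)) n hn ?_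
  exact of_coker (pj f E M) n ((small_cokernel f d hdim E M hE hM).HH n (by omega))
    ((small_kernel f d hdim E M hE hM).HH (n + 1) (by omega)) h

/-- `H^n(Y, M ⊗ f^* E) = 0` implies `H^n(X, f_* M ⊗ E) = 0` if `R^q f_* M = 0` for `q ≥ 1`. -/
theorem claimB (hv : ∀ q, 1 ≤ q → IsZero ((Coh.RpushAb f q).obj (Coh.toAb M)))
    (h : Subsingleton (Coh.HH Y (CohB1.tensorMod M ((Scheme.Modules.pullback f).obj E)) n)) :
    Subsingleton (Coh.HH X (CohB1.tensorMod ((Coh.push f).obj M) E) n) := by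
  have h1 := reverse_top f d hdim n hn
    (fun q x hx => stalk_zero f M hM.1 q (hv (q + 1) (by omega)) E hE.1 x hx) h
  exact of_ker_coker (pj f E M) n ((small_kernel f d hdim E M hE hM).HH n (by omega))
    (fun m hm => (small_cokernel f d hdim E M hE hM).HH m (by omega)) h1

end K234.Claims
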