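import Groth.Agent.ResProp.K234.TopVan

/-!
# Dimension of the loci of large fibres for a proper morphism which is finite at the generic points

`GenFin f`: the generic points of the source are closed in their fibres. Then `dim {x | dim Y_x ≥ j} < dim Y - j`, `j ≥ 1`.
-/

set_option autoImplicit false
universe u

open CategoryTheory Limits Opposite TopologicalSpace AlgebraicGeometry Order
open K234.DimProper K234.TopVan

namespace K234.DimGen

section Top

variable {X Y : Type*} [TopologicalSpace X] [TopologicalSpace Y]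

/-- The dimension of a subset of a point. -/
theorem not_one_le_of_subset_singleton {S : Set Y} {w : Y} (h : S ⊆ {w}) (j : ℕ) (hj : 1 ≤ j) :
    ¬ (j : WithBot ℕ∞) ≤ topologicalKrullDim S := by
  intro h1
  obtain ⟨p, hp, hpS⟩ := (le_dim_iff _ j).1 h1
  have h2 : ∀ i, (p i : Set Y) = closure {w} := by
    intro i
    have h3 : ((p i : Set Y) ∩ S) = {w} := by
      refine subset_antisymm (Set.inter_subset_right.trans h) ?_
      obtain ⟨y, hy⟩ : ((p i : Set Y) ∩ S).Nonempty := by
        rw [Set.nonempty_iff_ne_empty]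
        intro h4
        have h5 := hpS i
        rw [h4, closure_empty] at h5
        exact (p i).isIrreducible.nonempty.ne_empty h5.symm
      have h6 := h hy.2
      rw [Set.mem_singleton_iff] at h6
      subst h6
      simpa using hy
    rw [← hpS i, h3]
  have h7 : p 0 < p (Fin.last _) := p.strictMono (by
    rw [Fin.lt_def]; simp; omega)
  exact absurd ((h2 0).trans (h2 _).symm) (fun h8 => h7.ne (SetLike.coe_injective h8))

variable (f : Y → X) (hf : Continuous f) (j : ℕ)
  (husc : ∀ W : IrreducibleCloseds Y, IsClosed {x : X | (j : WithBot ℕ∞) ≤ topologicalKrullDim ↥((W : Set Y) ∩ f ⁻¹' {x})})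

include hf husc in
theorem dim_add_le_gen [QuasiSober X] [T0Space X] [QuasiSober Y] [T0Space Y] (hj : 1 ≤ j)
    (hgen : ∀ w : Y, (∀ z, z ⤳ w → z = w) → ∀ z, w ⤳ z → f z = f w → z = w) (T : Set X)
    (hT : IsClosed T) (h : ∀ x ∈ T, (j : WithBot ℕ∞) ≤ topologicalKrullDim ↥(f ⁻¹' {x})) (d : ℕ)
    (hd : topologicalKrullDim Y ≤ d) (n : ℕ) (hn : (n : WithBot ℕ∞) ≤ topologicalKrullDim T) : n + (j + 1) ≤ d := by
  obtain ⟨q, hq, hqT⟩ := (le_dim_iff _ n).1 hn
  have hqT' : (q.last : Set X) ⊆ T := by
    intro x hx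
    have h2 : (x : X) ∈ closure ((q (Fin.last _) : Set X) ∩ T) := by rw [hqT]; exact hx
    exact closure_minimal Set.inter_subset_right hT h2
  obtain ⟨z, hz⟩ := QuasiSober.sober q.last.isIrreducible q.last.isClosed
  obtain ⟨W, h1, h2, h3⟩ := exists_sub f hf j husc (S := f ⁻¹' {z}) subset_rfl (h z (hqT' hz.mem))
  obtain ⟨p, hp, hpW⟩ := exists_chain f hf j husc n q hq W (by rw [hz.def] at h3; exact h3)
  obtain ⟨w, hw⟩ := QuasiSober.sober W.isIrreducible W.isClosed
  obtain ⟨C, hC⟩ : ∃ C : IrreducibleCloseds Y, W < C := by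
    by_cases hw' : ∀ v, v ⤳ w → v = w
    · exfalso
      obtain ⟨y, hyW, hy⟩ := nonempty_of_le_dim (h3 z (subset_closure rfl))
      have hwy : w ⤳ y := hw.specializes hyW
      have hfw : f w = z := by
        have h4 : f w ⤳ z := by
          have := hwy.map hf
          rwa [show f y = z from hy] at this
        have h5 : z ⤳ f w := specializes_iff_mem_closure.2 (h2 w hw.mem)
        exact (h4.antisymm h5).eq
      refine not_one_le_of_subset_singleton (w := w) ?_ j hj (h3 z (subset_closure rfl))
      rintro v ⟨hv, hv'⟩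
      exact hgen w hw' v (hw.specializes hv) ((show f v = z from hv').trans hfw.symm)
    · push Not at hw'
      obtain ⟨v, hv, hne⟩ := hw'
      refine ⟨⟨closure {v}, isIrreducible_singleton.closure, isClosed_closure⟩, lt_of_le_of_ne ?_ ?_⟩
      · intro y hy
        have h6 : w ⤳ y := hw.specializes hy
        exact specializes_iff_mem_closure.1 (hv.trans h6)
      · intro he
        have h7 : v ∈ (W : Set Y) := by rw [he]; exact subset_closure rfl
        exact hne (hv.antisymm (hw.specializes h7)).eq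
  have h6 := LTSeries.length_le_krullDim (p.snoc C (lt_of_le_of_lt hpW hC))
  have h7 := h6.trans hd
  rw [RelSeries.snoc_length, hp] at h7
  have h8 : n + j + 1 ≤ d := by exact_mod_cast h7
  omega

/-- A dense open set contains the generic points. -/
theorem mem_of_dense [NoetherianSpace Y] {V : Set Y} (hVo : IsOpen V) (hV : Dense V) {w : Y}
    (hw : ∀ z, z ⤳ w → z = w) [QuasiSober Y] [T0Space Y] : w ∈ V := by
  have hfin : (irreducibleComponents Y).Finite := NoetherianSpace.finite_irreducibleComponents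
  let S : Set Y := ⋃ Z ∈ irreducibleComponents Y \ {closure {w}}, Z
  have hS : IsClosed S := Set.Finite.isClosed_biUnion (hfin.subset Set.sdiff_subset)
    fun Z hZ => isClosed_of_mem_irreducibleComponents Z hZ.1
  have hwS : w ∉ S := by
    intro h
    simp only [S, Set.mem_iUnion] at h
    obtain ⟨Z, ⟨hZ, hZ'⟩, hwZ⟩ := h
    obtain ⟨z, hz⟩ := QuasiSober.sober hZ.1 (isClosed_of_mem_irreducibleComponents Z hZ)
    have h1 := hw z (hz.specializes hwZ)
    subst h1
    exact hZ' hz.def.symm
  obtain ⟨v, hv, hvV⟩ := hV.inter_open_nonempty Sᶜ hS.isOpen_compl ⟨w, hwS⟩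
  have h2 : w ⤳ v := by
    have h3 : v ∈ irreducibleComponent v := mem_irreducibleComponent
    by_cases h4 : irreducibleComponent v = closure {w}
    · rw [h4] at h3
      exact specializes_iff_mem_closure.2 h3
    · exact absurd (show v ∈ S from by
        simp only [S, Set.mem_iUnion]
        exact ⟨irreducibleComponent v, ⟨irreducibleComponent_mem_irreducibleComponents v, h4⟩, h3⟩) hv
  exact h2.mem_open hVo hvV

/-- The complement of a dense open set. -/
theorem dimLt_compl_of_dense [NoetherianSpace Y] [QuasiSober Y] [T0Space Y] {V : Set Y} (hVo : IsOpen V) (hV : Dense V)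
    (d : ℕ) (hd : topologicalKrullDim Y ≤ d) : DimLt Vᶜ d := by
  intro n hn
  obtain ⟨q, hq, hqT⟩ := (le_dim_iff _ n).1 hn
  have hqT' : (q.last : Set Y) ⊆ Vᶜ := by
    intro x hx
    have h2 : (x : Y) ∈ closure ((q (Fin.last _) : Set Y) ∩ Vᶜ) := by rw [hqT]; exact hx
    exact closure_minimal Set.inter_subset_right hVo.isClosed_compl h2
  obtain ⟨w, hw⟩ := QuasiSober.sober q.last.isIrreducible q.last.isClosed
  have hwV : w ∉ V := hqT' hw.mem
  have hw' : ¬ ∀ z, z ⤳ w → z = w := fun h => hwV (mem_of_dense hVo hV h)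
  push Not at hw'
  obtain ⟨v, hv, hne⟩ := hw'
  have hC : q.last < (⟨closure {v}, isIrreducible_singleton.closure, isClosed_closure⟩ : IrreducibleCloseds Y) := by
    refine lt_of_le_of_ne ?_ ?_
    · intro y hy
      exact specializes_iff_mem_closure.1 (hv.trans (hw.specializes hy))
    · intro he
      have h7 : v ∈ (q.last : Set Y) := by rw [he]; exact subset_closure rfl
      exact hne (hv.antisymm (hw.specializes h7)).eq
  have h6 := LTSeries.length_le_krullDim (q.snoc _ hC)
  have h7 := h6.trans hd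
  rw [RelSeries.snoc_length, hq] at h7
  have h8 : n + 1 ≤ d := by exact_mod_cast h7
  omega

theorem eq_of_specializes_of_discrete {T : Type*} [TopologicalSpace T] {S : Set T} (hS : IsDiscrete S) {w z : T}
    (hw : w ∈ S) (hz : z ∈ S) (h : w ⤳ z) : z = w := by
  have := hS.to_subtype
  have h1 : (⟨w, hw⟩ : S) ⤳ ⟨z, hz⟩ := (Topology.IsInducing.subtypeVal.specializes_iff).1 h
  have h2 := h1.eq
  exact (congrArg Subtype.val h2).symm

end Top

section Sch

variable {X Y : Scheme.{u}} (f : Y ⟶ X)

/-- The generic points of the source are closed in their fibres. -/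
def GenFin : Prop := ∀ w : Y, (∀ z, z ⤳ w → z = w) → ∀ z, w ⤳ z → f z = f w → z = w

variable {f}

theorem dimLt_fibLocus [IsProper f] (hgen : GenFin f) (d : ℕ) (hd : topologicalKrullDim Y ≤ d) (j : ℕ) (hj : 1 ≤ j) :
    DimLt (fibLocus f j) (d - j) := by
  intro n hn
  have h1 := dim_add_le_gen f f.continuous j (fun W => isClosed_le_closed f W j) hj hgen (fibLocus f j)
    (isClosed_fibLocus f j) (fun x hx => by
      rw [← Groth.Agent.FlatA.FibreDim.topologicalKrullDim_fiber_eq]
      exact hx) d hd n hn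
  omega

/-- Specializations in the fibres of a finite morphism are trivial. -/
theorem eq_of_specializes_of_finite (U : X.Opens) (hfin : IsFinite (f ∣_ U)) {w z : Y} (hw : f w ∈ U) (h : w ⤳ z)
    (hfz : f z = f w) : z = w := by
  have hz : f z ∈ U := by rw [hfz]; exact hw
  let w' : (f ⁻¹ᵁ U : Y.Opens) := ⟨w, hw⟩
  let z' : (f ⁻¹ᵁ U : Y.Opens) := ⟨z, hz⟩
  have h1 : w' ⤳ z' := (Topology.IsInducing.subtypeVal.specializes_iff).1 h
  have h2 := Scheme.Hom.isDiscrete_preimage_singleton (f ∣_ U) ((f ∣_ U) w')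
  have h3 : (f ∣_ U) z' = (f ∣_ U) w' := by
    apply Subtype.ext
    exact (morphismRestrict_base_coe f U z').trans (hfz.trans (morphismRestrict_base_coe f U w').symm)
  exact congrArg Subtype.val (eq_of_specializes_of_discrete h2 (w := w') (z := z') rfl h3 h1)

theorem genFin_of_finite [NoetherianSpace Y] (U : X.Opens) (hU : Dense ((f ⁻¹ᵁ U : Y.Opens) : Set Y))
    (hfin : IsFinite (f ∣_ U)) : GenFin f := fun _ hw _ h hfz =>
  eq_of_specializes_of_finite U hfin (mem_of_dense (f ⁻¹ᵁ U).isOpen hU hw) h hfz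

theorem GenFin.comp {Z : Scheme.{u}} {g : Z ⟶ Y} (hf : GenFin f)
    (hg : ∀ w : Z, (∀ z : Z, z ⤳ w → z = w) → (∀ z : Y, z ⤳ g w → z = g w) ∧ ∀ z : Z, g z = g w → z = w) :
    GenFin (g ≫ f) := by
  intro w hw z h hfz
  obtain ⟨h1, h2⟩ := hg w hw
  refine h2 z (hf (g w) h1 (g z) (h.map g.continuous) ?_)
  simpa using hfz

end Sch

end K234.DimGen
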