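import Groth.Agent.S0403
import Mathlib

/-!
# Dimension of the loci of large fibre dimension of a proper morphism

`f : Y ⟶ X` proper, `Y` a Noetherian space, `U` open in `X` with `f⁻¹ U` dense in `Y`, `T` closed in `X` and disjoint
from `U`, all fibres of `f` over `T` of dimension `≥ j`.  Then `dim T + j + 1 ≤ dim Y` (`dim_add_le`).
* `fibLocus f j`: the closed set of points of `X` whose fibre has dimension `≥ j`;
* `dim_fibLocus_le`: if `f` has fibres of dimension `≤ 0` over `U` then `dim (fibLocus f j) + (j + 1) ≤ d` for `j ≥ 1`.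
-/

set_option autoImplicit false
universe u

open CategoryTheory Limits Opposite TopologicalSpace AlgebraicGeometry Order

namespace K234.DimProper

section Top

variable {X Y : Type*} [TopologicalSpace X] [TopologicalSpace Y]

/-- Chains of irreducible closed subsets of a subspace, seen in the ambient space. -/
theorem le_dim_iff (S : Set Y) (n : ℕ) : (n : WithBot ℕ∞) ≤ topologicalKrullDim S ↔
    ∃ p : LTSeries (IrreducibleCloseds Y), p.length = n ∧ ∀ i, closure ((p i : Set Y) ∩ S) = p i := by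
  rw [topologicalKrullDim, le_krullDim_iff]
  constructor
  · rintro ⟨l, hl⟩
    refine ⟨l.map (IrreducibleCloseds.map Subtype.val continuous_subtype_val)
      (IrreducibleCloseds.map_strictMono_of_isInducing Topology.IsInducing.subtypeVal), hl, fun i => ?_⟩
    change closure (closure (Subtype.val '' (l i : Set S)) ∩ S) = closure (Subtype.val '' (l i : Set S))
    refine subset_antisymm (closure_minimal Set.inter_subset_left isClosed_closure) ?_
    refine closure_mono fun y hy => ⟨subset_closure hy, ?_⟩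
    obtain ⟨z, -, rfl⟩ := hy
    exact z.2
  · rintro ⟨p, hp, h⟩
    have hirr : ∀ i, IsIrreducible ((Subtype.val : S → Y) ⁻¹' (p i : Set Y)) := by
      intro i
      have h1 : IsIrreducible ((p i : Set Y) ∩ S) := by
        rw [← isIrreducible_iff_closure, h i]; exact (p i).isIrreducible
      refine ⟨?_, ?_⟩
      · obtain ⟨y, hy, hyS⟩ := h1.nonempty
        exact ⟨⟨y, hyS⟩, hy⟩
      · rintro u v hu hv ⟨a, ha, hau⟩ ⟨b, hb, hbv⟩
        obtain ⟨u', hu', rfl⟩ := isOpen_induced_iff.1 hu
        obtain ⟨v', hv', rfl⟩ := isOpen_induced_iff.1 hv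
        obtain ⟨c, hc, hcu⟩ := h1.isPreirreducible u' v' hu' hv' ⟨a, ⟨ha, a.2⟩, hau⟩ ⟨b, ⟨hb, b.2⟩, hbv⟩
        exact ⟨⟨c, hc.2⟩, hc.1, hcu⟩
    refine ⟨⟨p.length, fun i => ⟨_, hirr i, (p i).isClosed.preimage continuous_subtype_val⟩, ?_⟩, hp⟩
    intro i
    change (⟨_, hirr i.castSucc, (p i.castSucc).isClosed.preimage continuous_subtype_val⟩ : IrreducibleCloseds S) <
      ⟨_, hirr i.succ, (p i.succ).isClosed.preimage continuous_subtype_val⟩
    have hstep : p i.castSucc < p i.succ := p.step i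
    refine lt_of_le_of_ne ?_ ?_
    · intro y hy
      exact hstep.le hy
    · intro he
      have h3 : (Subtype.val : S → Y) ⁻¹' (p i.castSucc : Set Y) = Subtype.val ⁻¹' (p i.succ : Set Y) :=
        congrArg (fun Z : IrreducibleCloseds S => (Z : Set S)) he
      have h4 : (p i.castSucc : Set Y) ∩ S = (p i.succ : Set Y) ∩ S := by
        rw [Set.inter_comm, ← Subtype.image_preimage_val, h3, Subtype.image_preimage_val, Set.inter_comm]
      refine hstep.ne (IrreducibleCloseds.ext ?_)
      exact (h i.castSucc).symm.trans ((congrArg closure h4).trans (h i.succ))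

theorem nonempty_of_le_dim {S : Set Y} {n : ℕ} (h : (n : WithBot ℕ∞) ≤ topologicalKrullDim S) : S.Nonempty := by
  by_contra hS
  rw [Set.not_nonempty_iff_eq_empty] at hS
  subst hS
  obtain ⟨p, hp, h⟩ := (le_dim_iff _ n).1 h
  have h1 := h 0
  rw [Set.inter_empty, closure_empty] at h1
  exact (p 0).isIrreducible.nonempty.ne_empty h1.symm

theorem le_of_closure {S : Set Y} {p : LTSeries (IrreducibleCloseds Y)} (h : ∀ i, closure ((p i : Set Y) ∩ S) = p i)
    {W : IrreducibleCloseds Y} (hS : S ⊆ W) (i) : p i ≤ W := by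
  intro y hy
  have h1 : (y : Y) ∈ closure ((p i : Set Y) ∩ S) := by rw [h i]; exact hy
  exact closure_minimal (Set.inter_subset_right.trans hS) W.isClosed h1

variable (f : Y → X) (hf : Continuous f) (j : ℕ)
  (husc : ∀ W : IrreducibleCloseds Y, IsClosed {x : X | (j : WithBot ℕ∞) ≤ topologicalKrullDim ↥((W : Set Y) ∩ f ⁻¹' {x})})

include hf husc in
/-- The closure of a large component of the fibre over the generic point has all its fibres large. -/
theorem exists_sub {z : X} {S : Set Y} (hS : S ⊆ f ⁻¹' {z}) (h : (j : WithBot ℕ∞) ≤ topologicalKrullDim S) :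
    ∃ W : IrreducibleCloseds Y, (W : Set Y) ⊆ closure S ∧ (∀ y ∈ W, f y ∈ closure {z}) ∧
      ∀ x ∈ closure {z}, (j : WithBot ℕ∞) ≤ topologicalKrullDim ↥((W : Set Y) ∩ f ⁻¹' {x}) := by
  obtain ⟨p, hp, hpS⟩ := (le_dim_iff _ j).1 h
  have hle : ∀ i, p i ≤ p.last := fun i => LTSeries.monotone p (Fin.le_last i)
  have h1 : (p.last : Set Y) ⊆ closure S := by
    intro y hy
    have h2 : (y : Y) ∈ closure ((p (Fin.last _) : Set Y) ∩ S) := by rw [hpS]; exact hy
    exact closure_mono Set.inter_subset_right h2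
  refine ⟨p.last, h1, ?_, ?_⟩
  · intro y hy
    have h2 : f y ∈ closure (f '' S) := image_closure_subset_closure_image hf ⟨y, h1 hy, rfl⟩
    refine closure_mono ?_ h2
    rintro _ ⟨t, ht, rfl⟩
    exact hS ht
  · intro x hx
    refine closure_minimal (s := {z}) ?_ (husc p.last) hx
    rw [Set.singleton_subset_iff]
    refine (le_dim_iff _ j).2 ⟨p, hp, fun i => ?_⟩
    refine subset_antisymm (closure_minimal Set.inter_subset_left (p i).isClosed) ?_
    conv_lhs => rw [← hpS i]
    refine closure_mono fun y hy => ⟨hy.1, hle i hy.1, hS hy.2⟩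

include hf husc in
theorem exists_chain [QuasiSober X] (n : ℕ) : ∀ (q : LTSeries (IrreducibleCloseds X)), q.length = n →
    ∀ W : IrreducibleCloseds Y,
      (∀ x ∈ q.last, (j : WithBot ℕ∞) ≤ topologicalKrullDim ↥((W : Set Y) ∩ f ⁻¹' {x})) →
      ∃ p : LTSeries (IrreducibleCloseds Y), p.length = n + j ∧ p.last ≤ W := by
  induction n with
  | zero =>
    intro q hq W hW
    obtain ⟨x, hx⟩ := q.last.isIrreducible.nonempty
    obtain ⟨p, hp, hpS⟩ := (le_dim_iff _ j).1 (hW x hx)
    exact ⟨p, by rw [hp, zero_add], le_of_closure hpS Set.inter_subset_left _⟩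
  | succ n ih =>
    intro q hq W hW
    have hpos : q.length ≠ 0 := by omega
    have hlt : q.eraseLast.last < q.last := q.eraseLast_last_rel_last hpos
    obtain ⟨z, hz⟩ := QuasiSober.sober q.eraseLast.last.isIrreducible q.eraseLast.last.isClosed
    have hzm : z ∈ q.last := hlt.le (hz.mem)
    obtain ⟨W', h1, h2, h3⟩ := exists_sub f hf j husc (S := (W : Set Y) ∩ f ⁻¹' {z}) Set.inter_subset_right
      (hW z hzm)
    rw [hz.def] at h2 h3
    have hWW : W' ≤ W := fun y hy =>
      closure_minimal (s := (W : Set Y) ∩ f ⁻¹' {z}) Set.inter_subset_left W.isClosed (h1 hy)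
    have hne : W' ≠ W := by
      rintro rfl
      obtain ⟨x, hx, hx'⟩ := Set.exists_of_ssubset (show (q.eraseLast.last : Set X) ⊂ q.last from hlt)
      obtain ⟨y, hy, hy'⟩ := nonempty_of_le_dim (hW x hx)
      exact hx' (hy' ▸ h2 y hy)
    obtain ⟨p, hp, hpl⟩ := ih q.eraseLast (by simp [hq]) W' h3
    refine ⟨p.snoc W (lt_of_le_of_lt hpl (lt_of_le_of_ne hWW hne)), ?_, ?_⟩
    · simp [hp]; omega
    · simp

include hf husc in
theorem dim_add_le_top [QuasiSober X] [NoetherianSpace Y] (V : Set Y) (hV : Dense V) (T : Set X)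
    (hT : IsClosed T) (hTV : ∀ y ∈ V, f y ∉ T)
    (h : ∀ x ∈ T, (j : WithBot ℕ∞) ≤ topologicalKrullDim ↥(f ⁻¹' {x})) (d : ℕ) (hd : topologicalKrullDim Y ≤ d)
    (n : ℕ) (hn : (n : WithBot ℕ∞) ≤ topologicalKrullDim T) : n + (j + 1) ≤ d := by
  obtain ⟨q, hq, hqT⟩ := (le_dim_iff _ n).1 hn
  have hqT' : (q.last : Set X) ⊆ T := by
    intro x hx
    have h2 : (x : X) ∈ closure ((q (Fin.last _) : Set X) ∩ T) := by rw [hqT]; exact hx
    exact closure_minimal Set.inter_subset_right hT h2
  obtain ⟨z, hz⟩ := QuasiSober.sober q.last.isIrreducible q.last.isClosed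
  obtain ⟨W, h1, h2, h3⟩ := exists_sub f hf j husc (S := f ⁻¹' {z}) subset_rfl (h z (hqT' hz.mem))
  rw [hz.def] at h2 h3
  obtain ⟨p, hp, hpW⟩ := exists_chain f hf j husc n q hq W h3
  -- an irreducible closed set strictly larger than `W`
  obtain ⟨C, hC⟩ : ∃ C : IrreducibleCloseds Y, W < C := by
    have hfin : (irreducibleComponents V).Finite := NoetherianSpace.finite_irreducibleComponents
    have hcov : (W : Set Y) ⊆ ⋃ Z ∈ irreducibleComponents V, closure (Subtype.val '' Z) := by
      have h4 : (⋃ Z ∈ irreducibleComponents V, closure ((Subtype.val : V → Y) '' Z)) = Set.univ := by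
        rw [← hfin.closure_biUnion, ← Set.image_iUnion₂, ← Set.sUnion_eq_biUnion, sUnion_irreducibleComponents,
          Set.image_univ, Subtype.range_coe]
        exact hV.closure_eq
      rw [h4]; exact Set.subset_univ _
    obtain ⟨Z, hZ, hWZ⟩ := (isIrreducible_iff_sUnion_isClosed.1 W.isIrreducible)
      (hfin.toFinset.image fun Z => closure ((Subtype.val : V → Y) '' Z))
      (by simp only [Finset.mem_image]; rintro _ ⟨Z, -, rfl⟩; exact isClosed_closure)
      (by
        refine hcov.trans ?_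
        intro y hy
        simp only [Set.mem_iUnion] at hy
        obtain ⟨Z, hZ, hy⟩ := hy
        refine ⟨_, ?_, hy⟩
        simp only [Finset.coe_image, Set.Finite.coe_toFinset]
        exact ⟨Z, hZ, rfl⟩)
    simp only [Finset.mem_image, Set.Finite.mem_toFinset] at hZ
    obtain ⟨Z, hZ, rfl⟩ := hZ
    have hZi : IsIrreducible Z := hZ.1
    refine ⟨⟨closure ((Subtype.val : V → Y) '' Z), (hZi.image _ continuous_subtype_val.continuousOn).closure,
      isClosed_closure⟩, lt_of_le_of_ne hWZ ?_⟩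
    intro he
    obtain ⟨v, hv⟩ := hZi.nonempty
    have h5 : (v : Y) ∈ W := by
      rw [he]; exact subset_closure ⟨v, hv, rfl⟩
    exact hTV v v.2 (hqT' (h2 _ h5))
  have h6 := LTSeries.length_le_krullDim (p.snoc C (lt_of_le_of_lt hpW hC))
  have h7 := h6.trans hd
  rw [RelSeries.snoc_length, hp] at h7
  have h8 : n + j + 1 ≤ d := by exact_mod_cast h7
  omega

end Top

section Sch

variable {X Y : Scheme.{u}} (f : Y ⟶ X) [IsProper f]

/-- The predecessor of a natural number in `WithBot ℕ∞`. -/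
def pred : ℕ → WithBot ℕ∞
  | 0 => ⊥
  | i + 1 => ((i : ℕ∞) : WithBot ℕ∞)

theorem not_le_iff (t : WithBot ℕ∞) (j : ℕ) : ¬ (j : WithBot ℕ∞) ≤ t ↔ t ≤ pred j := by
  cases j with
  | zero =>
    induction t using WithBot.recBotCoe with
    | bot => simp [pred]
    | coe t =>
      constructor
      · intro h
        exact absurd (by simp : ((0 : ℕ) : WithBot ℕ∞) ≤ (t : WithBot ℕ∞)) h
      · intro h
        simp [pred] at h
  | succ i =>
    change ¬ (((i + 1 : ℕ) : ℕ∞) : WithBot ℕ∞) ≤ t ↔ t ≤ ((i : ℕ∞) : WithBot ℕ∞)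
    induction t using WithBot.recBotCoe with
    | bot => simp
    | coe t =>
      rw [WithBot.coe_le_coe, WithBot.coe_le_coe, not_le]
      push_cast
      exact ENat.lt_add_one_iff (ENat.natCast_ne_top i)

theorem isClosed_le (j : ℕ) : IsClosed {x : X | (j : WithBot ℕ∞) ≤ topologicalKrullDim (f.fiber x)} := by
  rw [← isOpen_compl_iff]
  have h : {x : X | (j : WithBot ℕ∞) ≤ topologicalKrullDim (f.fiber x)}ᶜ =
      {x : X | topologicalKrullDim (f.fiber x) ≤ pred j} := by
    ext x
    exact not_le_iff _ _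
  rw [h]
  exact Groth.Agent.S0403.result f _

theorem isClosed_le_closed (W : IrreducibleCloseds Y) (j : ℕ) :
    IsClosed {x : X | (j : WithBot ℕ∞) ≤ topologicalKrullDim ↥((W : Set Y) ∩ f ⁻¹' {x})} := by
  let I := Scheme.IdealSheafData.vanishingIdeal (⟨W, W.isClosed⟩ : Closeds Y)
  have hI : Set.range I.subschemeι = (W : Set Y) := by
    rw [Scheme.IdealSheafData.range_subschemeι, Scheme.IdealSheafData.coe_support_vanishingIdeal]
    rfl
  have h := isClosed_le (I.subschemeι ≫ f) j
  have he : ∀ x : X, topologicalKrullDim ((I.subschemeι ≫ f).fiber x) =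
      topologicalKrullDim ↥((W : Set Y) ∩ f ⁻¹' {x}) := by
    intro x
    rw [Groth.Agent.FlatA.FibreDim.topologicalKrullDim_fiber_eq]
    let φ : ((I.subschemeι ≫ f : I.subscheme ⟶ X) ⁻¹' {x} : Set I.subscheme) → ↥((W : Set Y) ∩ f ⁻¹' {x}) :=
      fun y => ⟨I.subschemeι y.1, by rw [← hI]; exact ⟨y.1, rfl⟩, y.2⟩
    have hemb : Topology.IsEmbedding φ := by
      refine (Topology.IsEmbedding.of_comp_iff (g := (Subtype.val : ↥((W : Set Y) ∩ f ⁻¹' {x}) → Y))
        Topology.IsEmbedding.subtypeVal).mp ?_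
      exact I.subschemeι.isClosedEmbedding.isEmbedding.comp Topology.IsEmbedding.subtypeVal
    have hsurj : Function.Surjective φ := by
      rintro ⟨y, hy, hy'⟩
      rw [← hI] at hy
      obtain ⟨z, rfl⟩ := hy
      exact ⟨⟨z, hy'⟩, rfl⟩
    exact IsHomeomorph.topologicalKrullDim_eq φ
      (Homeomorph.isHomeomorph (hemb.toHomeomorphOfSurjective hsurj))
  simp only [he] at h
  exact h

/-- The locus of points whose fibre has dimension `≥ j`. -/
def fibLocus (j : ℕ) : Set X := {x | (j : WithBot ℕ∞) ≤ topologicalKrullDim (f.fiber x)}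

theorem isClosed_fibLocus (j : ℕ) : IsClosed (fibLocus f j) := isClosed_le f j

omit [IsProper f] in
theorem dim_fiber_le {j : ℕ} {x : X} (h : x ∉ fibLocus f (j + 1)) : topologicalKrullDim (f.fiber x) ≤ j :=
  (not_le_iff _ _).1 h

omit [IsProper f] in
theorem fibLocus_anti {i j : ℕ} (h : i ≤ j) : fibLocus f j ⊆ fibLocus f i := by
  intro x hx
  have h1 : (i : WithBot ℕ∞) ≤ (j : WithBot ℕ∞) := by exact_mod_cast h
  exact h1.trans hx

theorem dim_add_le [NoetherianSpace Y] (V : Set Y) (hV : Dense V) (T : Set X) (hT : IsClosed T)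
    (hTV : ∀ y ∈ V, f y ∉ T) (j : ℕ) (h : ∀ x ∈ T, (j : WithBot ℕ∞) ≤ topologicalKrullDim (f.fiber x)) (d : ℕ)
    (hd : topologicalKrullDim Y ≤ d) (n : ℕ) (hn : (n : WithBot ℕ∞) ≤ topologicalKrullDim T) :
    n + (j + 1) ≤ d := by
  refine dim_add_le_top f f.continuous j (fun W => isClosed_le_closed f W j) V hV T hT hTV ?_ d hd n hn
  intro x hx
  rw [← Groth.Agent.FlatA.FibreDim.topologicalKrullDim_fiber_eq]
  exact h x hx

/-- The bound for the dimensions of the loci of positive fibre dimension. -/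
theorem dim_fibLocus_le [NoetherianSpace Y] (U : X.Opens) (hU : Dense ((f ⁻¹ᵁ U : Y.Opens) : Set Y))
    (hfin : ∀ x ∈ U, topologicalKrullDim (f.fiber x) ≤ 0) (d : ℕ) (hd : topologicalKrullDim Y ≤ d)
    (j : ℕ) (hj : 1 ≤ j) (n : ℕ) (hn : (n : WithBot ℕ∞) ≤ topologicalKrullDim (fibLocus f j)) : n + (j + 1) ≤ d := by
  refine dim_add_le f _ hU _ (isClosed_fibLocus f j) ?_ j (fun x hx => hx) d hd n hn
  intro y hy h
  have h1 : ((1 : ℕ) : WithBot ℕ∞) ≤ topologicalKrullDim (f.fiber (f y)) := fibLocus_anti f hj h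
  have h2 := h1.trans (hfin _ hy)
  have h3 : (1 : ℕ) ≤ 0 := by exact_mod_cast h2
  omega

end Sch

end K234.DimProper
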