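import Groth.Agent.ResProp.K234.TopVan
import Groth.Agent.S0027
import Groth.Agent.S0019
import Groth.Agent.S0020
import Groth.Agent.Dcoh.StalkT
import Groth.Agent.PerfA.CohSerre
import Groth.Agent.VarietyB.ExactLoc
import Groth.Agent.Ega3B.RpushAff
import Groth.Agent.Fdesc.StructMod
import Groth.Agent.Ega1.TensorRestrict

/-!
# Eventual vanishing of the top cohomology

`Good E d F`: for all large `n`, `H^i(X, F ⊗ E n) = 0` for all `i ≥ d`. On a Noetherian scheme of dimension `≤ d` this
property goes to extensions, to targets of maps with small cokernel, and (`good_of_eval`) to all coherent modules as soon as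
there is a coherent module `P`, nonzero at the points of dimension `d`, all of whose multiples `P ⊗ H` have it.
-/

set_option autoImplicit false
universe u

open CategoryTheory Limits Opposite TopologicalSpace AlgebraicGeometry Order
open Groth.Agent Groth.Agent.VarietyA.StalkCrit Groth.Agent.CycB.StalkExact
open K234.DimProper K234.TopVan

namespace K234.Dev

variable {X : Scheme.{u}}

/-- Eventual vanishing in the degrees `≥ d`. -/
def Good (E : ℕ → X.Modules) (d : ℕ) (F : X.Modules) : Prop :=
  ∃ n₀ : ℕ, ∀ n : ℕ, n₀ ≤ n → ∀ i : ℕ, d ≤ i → Subsingleton (Coh.HH X (CohB1.tensorMod F (E n)) i)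

/-- Tensoring on the right. -/
noncomputable abbrev tR (E : X.Modules) : X.Modules ⥤ X.Modules := (DCoh.tensorBi (X := X)).flip.obj E

theorem subsingleton_stalk_tensor_left (M N : X.Modules) (x : X) (h : Subsingleton (M.presheaf.stalk x)) :
    Subsingleton ((CohB1.tensorMod M N).presheaf.stalk x) := by
  have e : (CohB1.tensorMod M N).presheaf.stalk x ≃ₗ[X.presheaf.stalk x]
      TensorProduct (X.presheaf.stalk x) (M.presheaf.stalk x) (N.presheaf.stalk x) :=
    (Dcoh.Stalk.tensorStalkIso M N x).toLinearEquiv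
  exact e.toEquiv.subsingleton

theorem Small.tensor {M : X.Modules} {e : ℕ} (h : Small M e) (N : X.Modules) : Small (CohB1.tensorMod M N) e := by
  obtain ⟨T, hT, h1, h2⟩ := h
  exact ⟨T, hT, h1, fun x hx => subsingleton_stalk_tensor_left M N x (h2 x hx)⟩

variable (E : ℕ → X.Modules) (d : ℕ)

variable {E d}

theorem Good.of_iso {F G : X.Modules} (h : Good E d F) (e : F ≅ G) : Good E d G := by
  obtain ⟨n₀, h0⟩ := h
  exact ⟨n₀, fun n hn i hi => HH_iso ((tR (E n)).mapIso e) i (h0 n hn i hi)⟩

theorem good_of_small [NoetherianSpace X] {F : X.Modules} (h : Small F d) : Good E d F :=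
  ⟨0, fun n _ i hi => (Small.tensor h (E n)).HH i hi⟩

/-- The property goes to the target of a map whose cokernel has it. -/
theorem Good.of_coker [NoetherianSpace X] (hX : topologicalKrullDim X ≤ d) {F G : X.Modules} (φ : F ⟶ G)
    (hc : Good E d (cokernel φ)) (h : Good E d F) : Good E d G := by
  obtain ⟨n₁, h1⟩ := hc
  obtain ⟨n₀, h0⟩ := h
  refine ⟨max n₁ n₀, fun n hn i hi => ?_⟩
  refine TopVan.of_coker ((tR (E n)).map φ) i ?_ ?_ (h0 n ((le_max_right _ _).trans hn) i hi)
  · exact HH_iso (PreservesCokernel.iso (tR (E n)) φ) i (h1 n ((le_max_left _ _).trans hn) i hi)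
  · exact (small_top _ d hX).HH (i + 1) (by omega)

theorem Good.ext [NoetherianSpace X] (hX : topologicalKrullDim X ≤ d) {S : ShortComplex X.Modules} (hS : S.ShortExact)
    (h1 : Good E d S.X₁) (h3 : Good E d S.X₃) : Good E d S.X₂ := by
  have := hS.mono_f
  have := hS.epi_g
  refine Good.of_coker hX S.f (Good.of_iso h3 ?_) h1
  exact IsColimit.coconePointUniqueUpToIso hS.exact.gIsCokernel (colimit.isColimit (parallelPair S.f 0))

theorem good_of_isEmpty [IsEmpty X] (F : X.Modules) : Good E d F := by
  have : NoetherianSpace X := inferInstance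
  refine good_of_small ⟨∅, isClosed_empty, ?_, fun x => isEmptyElim x⟩
  intro n hn
  exact absurd (nonempty_of_le_dim hn) Set.not_nonempty_empty

/-- A proper closed subset of an irreducible closed set. -/
theorem dimLt_of_subset (d : ℕ) (hX : topologicalKrullDim X ≤ d) (T : Set X) (hT : IsClosed T) (ξ : X)
    (hTξ : T ⊆ closure {ξ}) (hξ : ξ ∉ T) : DimLt T d := by
  intro n hn
  obtain ⟨q, hq, hqT⟩ := (le_dim_iff _ n).1 hn
  have hqT' : (q.last : Set X) ⊆ T := by
    intro x hx
    have h2 : (x : X) ∈ closure ((q (Fin.last _) : Set X) ∩ T) := by rw [hqT]; exact hx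
    exact closure_minimal Set.inter_subset_right hT h2
  have hC : q.last < (⟨closure {ξ}, isIrreducible_singleton.closure, isClosed_closure⟩ : IrreducibleCloseds X) := by
    refine lt_of_le_of_ne (hqT'.trans hTξ) ?_
    intro he
    have h7 : ξ ∈ (q.last : Set X) := by rw [he]; exact subset_closure rfl
    exact hξ (hqT' h7)
  have h6 := LTSeries.length_le_krullDim (q.snoc _ hC)
  have h7 := h6.trans hX
  rw [RelSeries.snoc_length, hq] at h7
  have h8 : n + 1 ≤ d := by exact_mod_cast h7
  omega

theorem subsingleton_stalk_of_sections (M : X.Modules) (x : X) (U : X.Opens) (hx : x ∈ U)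
    (h : ∀ V : X.Opens, V ≤ U → Subsingleton Γ(M, V)) : Subsingleton (M.presheaf.stalk x) := by
  refine subsingleton_of_forall_eq 0 fun m => ?_
  obtain ⟨V, hxV, hVU, s, rfl⟩ := VarietyB.ExactLoc.exists_germ_le M hx m
  have := h V hVU
  rw [Subsingleton.elim s 0, map_zero]

theorem isZero_sections_bot (M : X.Modules) : IsZero (M.presheaf.obj (op (⊥ : X.Opens))) := by
  have hT : IsTerminal (M.presheaf.obj (op (⊥ : X.Opens))) :=
    TopCat.Sheaf.isTerminalOfEmpty (X := X) (⟨M.presheaf, M.isSheaf⟩ : TopCat.Sheaf Ab.{u} X)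
  exact hT.isZero

theorem subsingleton_stalk_push {Z : Scheme.{u}} (i : Z ⟶ X) (I : Z.Modules) (x : X)
    (hx : x ∉ closure (Set.range i)) : Subsingleton (((Coh.push i).obj I).presheaf.stalk x) := by
  refine subsingleton_stalk_of_sections _ x ⟨(closure (Set.range i))ᶜ, isClosed_closure.isOpen_compl⟩ hx fun V hV => ?_
  have h1 : i ⁻¹ᵁ V = ⊥ := by
    ext z
    simp only [Opens.coe_bot, Set.mem_empty_iff_false, iff_false]
    exact fun hz => hV hz (subset_closure ⟨z, rfl⟩)
  have h2 : Subsingleton Γ(I, i ⁻¹ᵁ V) := by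
    rw [h1]
    exact AddCommGrpCat.subsingleton_of_isZero (isZero_sections_bot I)
  exact h2

/-- **Devissage**: it is enough to have the property for the multiples `P ⊗ H` of a module `P` which is nonzero at the
points of dimension `d`. -/
theorem good_of_eval [IsNoetherian X] (hX : topologicalKrullDim X ≤ d) (P : X.Modules) (hP : Coh.IsQCoh P)
    (hPG : ∀ H : X.Modules, Coh.IsCoh H → Good E d (CohB1.tensorMod P H))
    (hne : ∀ ξ : X, ¬ DimLt (closure {ξ}) d → Nontrivial (P.presheaf.stalk ξ))
    (hev : ∀ (Z : Scheme.{u}) (i : Z ⟶ X) (_ : IsClosedImmersion i) (_ : IsIntegral Z) (I : Z.Modules),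
      Coh.IsCoh I → Nontrivial (P.presheaf.stalk (i (genericPoint Z))) →
      ∃ (H : X.Modules) (φ : CohB1.tensorMod P H ⟶ (Coh.push i).obj I),
        Coh.IsCoh H ∧ Subsingleton ((cokernel φ).presheaf.stalk (i (genericPoint Z))))
    (F : X.Modules) (hF : Coh.IsCoh F) : Good E d F := by
  cases isEmpty_or_nonempty X
  · exact good_of_isEmpty F
  refine Groth.Agent.S0027.result X (Good E d) (fun M N ⟨e⟩ h => h.of_iso e)
    (fun S hS _ _ _ h1 h3 => Good.ext hX hS h1 h3) ?_ F hF
  intro Z i hi hZ I ι hι hI
  have hlN : IsLocallyNoetherian Z := LocallyOfFiniteType.isLocallyNoetherian i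
  have hIc : Coh.IsCoh I := PerfA.CohSerre.isCoh_of_mono ι hI (Fdesc.StructMod.isCoh_structureModule Z)
  have hcl : closure (Set.range i) ⊆ closure {i (genericPoint Z)} := by
    refine closure_minimal ?_ isClosed_closure
    rintro _ ⟨z, rfl⟩
    exact specializes_iff_mem_closure.1 ((genericPoint_specializes z).map i.continuous)
  by_cases hd : DimLt (closure {i (genericPoint Z)}) d
  · exact good_of_small ⟨_, isClosed_closure, hd, fun x hx => subsingleton_stalk_push i I x fun h => hx (hcl h)⟩
  · obtain ⟨H, φ, hH, hs⟩ := hev Z i hi hZ I hIc (hne _ hd)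
    refine Good.of_coker hX φ (good_of_small ?_) (hPG H hH)
    have hGc : Coh.IsCoh ((Coh.push i).obj I) := Groth.Agent.S0019.result i I hIc
    have hft : CohB1.IsFT (cokernel φ) :=
      (PerfA.CohSerre.isCoh_cokernel φ (Ega1.TensorRestrict.isQCoh_tensorMod _ _ hP hH.1) hGc).2
    have hT := Groth.Agent.S0020.result X (cokernel φ) hft
    have h0 : ∀ x, x ∉ closure {i (genericPoint Z)} → Subsingleton ((cokernel φ).presheaf.stalk x) := fun x hx => by
      have h1 := subsingleton_stalk_push i I x fun h => hx (hcl h)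
      exact (stalkLin_surjective (cokernel.π φ) x).subsingleton
    refine ⟨CohB1.support (cokernel φ), hT, ?_, fun x hx => (not_mem_support_iff _ _).1 hx⟩
    refine dimLt_of_subset d hX _ hT (i (genericPoint Z)) (fun x hx => ?_) ((not_mem_support_iff _ _).2 hs)
    by_contra h2
    exact (not_mem_support_iff _ _).2 (h0 x h2) hx

end K234.Dev
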