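import Groth.Agent.ResProp.K234.Claims
import Groth.Agent.ResProp.K234.DimGen
import Groth.Agent.ResProp.K234.Good
import Groth.Agent.ResProp.K798.Eval
import Groth.Agent.ResProp.K924.RelVan
import Groth.Agent.ResProp.K399.Chow
import Groth.Agent.S0036
import Groth.Agent.Sga67.CohBasic
import Groth.Agent.Krr.H482.PullTens
import Groth.Agent.Fdesc.LocGenTensor

/-!
# Cohomological ampleness in top degree and alterations

`good_pullback` (⇒), `good_of_pullback` (⇐).
-/

set_option autoImplicit false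
universe u

open CategoryTheory Limits Opposite TopologicalSpace AlgebraicGeometry
open Groth.Agent Groth.Agent.VarietyA.StalkCrit Groth.Agent.CycB.StalkExact
open K234.DimProper K234.TopVan K234.AffProj K234.Claims K234.DimGen K234.Dev

namespace K234.Final

variable {X Y : Scheme.{u}} (f : Y ⟶ X)

theorem isCoh_push [IsProper f] [IsLocallyNoetherian X] {G : Y.Modules} (hG : Coh.IsCoh G) :
    Coh.IsCoh ((Coh.push f).obj G) := by
  have := Dcoh.DerSch.hasInjectiveResolutions Y
  exact Sga67.CohBasic.isCoh_of_iso ((Scheme.Modules.pushforward f).rightDerivedZeroIsoSelf.app G)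
    (Groth.Agent.S0036.result f G hG 0)

open Fdesc in
theorem nontrivial_stalk_of_isInvertible {L : X.Modules} (hL : PicF.IsInvertible L) (x : X) :
    Nontrivial (L.presheaf.stalk x) := by
  obtain ⟨U, e, hx, he⟩ := (LocGen.isInvertible_iff L).1 hL x
  by_contra hs
  rw [not_nontrivial_iff_subsingleton] at hs
  have h0 : L.presheaf.germ U x hx e = L.presheaf.germ U x hx 0 := Subsingleton.elim _ _
  obtain ⟨V, hxV, i1, i2, h1⟩ := TopCat.Presheaf.germ_eq _ x hx hx e 0 h0
  have h2 := he V i1.le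
  have h3 : LocGen.res L i1.le e = 0 := h1.trans (map_zero _)
  have h4 : (1 : Γ(X, V)) = 0 := h2.1 (by simp [h3])
  have : Nonempty V := ⟨⟨x, hxV⟩⟩
  exact one_ne_zero h4

/-- The direct image of `M` is nonzero at the image of a point of the support of `M`, over the points with finite fibre. -/
theorem nontrivial_push [IsProper f] [IsNoetherian X] (M : Y.Modules) (hM : Coh.IsCoh M) (y : Y)
    (hy : Nontrivial (M.presheaf.stalk y)) (hx : f y ∉ fibLocus f 1) :
    Nontrivial (((Coh.push f).obj M).presheaf.stalk (f y)) := by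
  by_contra hs
  rw [not_nontrivial_iff_subsingleton] at hs
  obtain ⟨U, hxU, hfin⟩ := exists_finite_nhd f (f y) hx
  have hP : Coh.IsCoh ((Coh.push f).obj M) := isCoh_push f hM
  have hT := Groth.Agent.S0020.result X _ hP.2
  obtain ⟨V, hV, hyV, hVU⟩ := exists_isAffineOpen_mem_and_subset (X := X) (x := f y)
    (U := U ⊓ ⟨(CohB1.support ((Coh.push f).obj M))ᶜ, hT.isOpen_compl⟩) ⟨hxU, (not_mem_support_iff _ _).2 hs⟩
  have h0 : Subsingleton Γ((Coh.push f).obj M, V) := by
    refine subsingleton_of_forall_eq 0 fun s => ?_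
    refine TopCat.Presheaf.section_ext (⟨((Coh.push f).obj M).presheaf, ((Coh.push f).obj M).isSheaf⟩ :
      TopCat.Sheaf Ab.{u} X) V s 0 fun x hxV => ?_
    have h3 : Subsingleton (((Coh.push f).obj M).presheaf.stalk x) := (not_mem_support_iff _ _).1 (hVU hxV).2
    exact @Subsingleton.elim _ h3 _ _
  have h0' : Subsingleton Γ(M, f ⁻¹ᵁ V) := h0
  have hA : IsAffineOpen (f ⁻¹ᵁ V) :=
    isAffineOpen_preimage_of_restrict f U inferInstance hV fun _ hz => (hVU hz).1
  have h1 : Subsingleton (M.presheaf.stalk y) := subsingleton_stalk_of_sections M y (f ⁻¹ᵁ V) hyV fun W hW =>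
    Ega3B.RpushAff.subsingleton_of_le M hM.1 hA h0' hW
  exact not_subsingleton _ h1

/-- (⇒) -/
theorem good_pullback [IsProper f] [IsNoetherian X] (hgen : GenFin f) (d : ℕ) (hY : topologicalKrullDim Y ≤ d)
    (E : ℕ → X.Modules) (hE : ∀ n, Coh.IsCoh (E n)) (h : ∀ F : X.Modules, Coh.IsCoh F → Dev.Good E d F)
    (F : Y.Modules) (hF : Coh.IsCoh F) : Dev.Good (fun n => (Scheme.Modules.pullback f).obj (E n)) d F := by
  obtain ⟨n₀, h0⟩ := h _ (isCoh_push f hF)
  exact ⟨n₀, fun n hn i hi => claimA f d (dimLt_fibLocus hgen d hY) (E n) F (hE n) hF i hi (h0 n hn i hi)⟩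

/-- (⇐), in the presence of an acyclic invertible module. -/
theorem good_of_pullback [IsProper f] [IsNoetherian X] (hgen : GenFin f) (d : ℕ) (hX : topologicalKrullDim X ≤ d)
    (hY : topologicalKrullDim Y ≤ d)
    (E : ℕ → X.Modules) (hE : ∀ n, Coh.IsCoh (E n))
    (h : ∀ F : Y.Modules, Coh.IsCoh F → Dev.Good (fun n => (Scheme.Modules.pullback f).obj (E n)) d F)
    (hs : Function.Surjective f) (M : Y.Modules) (hM : Coh.IsCoh M) (hMs : ∀ y : Y, Nontrivial (M.presheaf.stalk y))
    (hv : ∀ q, 1 ≤ q → IsZero ((Coh.RpushAb f q).obj (Coh.toAb M)))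
    (F : X.Modules) (hF : Coh.IsCoh F) : Dev.Good E d F := by
  have hdim : ∀ j, 1 ≤ j → DimLt (fibLocus f j) (d - j) := dimLt_fibLocus hgen d hY
  refine good_of_eval hX ((Coh.push f).obj M) (isCoh_push f hM).1 (fun H hH => ?_) (fun ξ hξ => ?_)
    (fun Z i _ _ I hI hn => K798.ResEval.exists_eval _ (isCoh_push f hM) i I hI hn) F hF
  · -- the multiples of `f_* M`
    obtain ⟨n₀, h0⟩ := h _ (isCoh_tensor hM (FormalA.PullbackQC.isCoh_pullback f H hH))
    refine ⟨n₀, fun n hn i hi => ?_⟩
    have h1 := h0 n hn i hi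
    let e1 : (Scheme.Modules.pullback f).obj (CohB1.tensorMod H (E n)) ≅ CohB1.tensorMod ((Scheme.Modules.pullback f).obj H)
        ((Scheme.Modules.pullback f).obj (E n)) := Krr.H482.PullTens.pullTensorIso f H (E n)
    have h2 : Subsingleton (Coh.HH Y (CohB1.tensorMod M ((Scheme.Modules.pullback f).obj (CohB1.tensorMod H (E n)))) i) :=
      HH_iso (Ega2.Tens.assoc _ _ _ ≪≫ Ega2.Tens.mapTIso (Iso.refl _) e1.symm) i h1
    have h3 := claimB f d hdim (CohB1.tensorMod H (E n)) M (isCoh_tensor hH (hE n)) hM i hi hv h2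
    exact HH_iso (Ega2.Tens.assoc _ _ _).symm i h3
  · obtain ⟨y, rfl⟩ := hs ξ
    refine nontrivial_push f M hM y (hMs y) fun h4 => hξ ?_
    refine ((hdim 1 le_rfl).of_le (by omega)).mono ?_
    exact closure_minimal (Set.singleton_subset_iff.2 h4) (isClosed_fibLocus f 1)

end K234.Final
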