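import Groth.Agent.ResProp.K234.Final
import Groth.Agent.ResProp.K399.OffCodim2
import Groth.Agent.Ega3B.TensRestrict
import Groth.Agent.Dcoh.PushRestrict
import Groth.Agent.S0051

/-!
# Modules which become ample in codimension one on a modification

`good_pow`: if `f^* F` is isomorphic to the ample module `L` over the preimage of an open set containing the points of
codimension `≤ 1`, then `H^i(X, G ⊗ F^n) = 0` for `i ≥ dim X` and large `n`.
-/

set_option autoImplicit false
universe u

open CategoryTheory Limits Opposite TopologicalSpace AlgebraicGeometry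
open Groth.Agent Groth.Agent.VarietyA.StalkCrit Groth.Agent.CycB.StalkExact
open K234.DimProper K234.TopVan K234.AffProj K234.Claims K234.DimGen K234.Dev K234.Final

namespace K234.Final2

variable {X Y : Scheme.{u}} (f : Y ⟶ X)

theorem subsingleton_H_of_isZero {X : TopCat.{u}} {F : CohTop.Ab X} (h : IsZero F) (n : ℕ) :
    Subsingleton (CohTop.H F n) := by
  have h1 : ∀ a : CohTop.H F n, a = 0 := fun a => by
    have h2 : a = a.comp (Abelian.Ext.mk₀ (𝟙 F)) (add_zero n) := (Abelian.Ext.comp_mk₀_id a).symm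
    rw [h2, h.eq_of_src (𝟙 F) 0, Abelian.Ext.mk₀_zero, Abelian.Ext.comp_zero]
  exact ⟨fun a b => (h1 a).trans (h1 b).symm⟩

theorem nonempty_push_restrict_iso (V : X.Opens) {A A' : Y.Modules}
    (e : A.restrict (f ⁻¹ᵁ V).ι ≅ A'.restrict (f ⁻¹ᵁ V).ι) :
    Nonempty (((Coh.push f).obj A).restrict V.ι ≅ ((Coh.push f).obj A').restrict V.ι) :=
  ⟨(Dcoh.PushRestrict.pushMorphismRestrictIso f V).app A ≪≫ (Scheme.Modules.pushforward (f ∣_ V)).mapIso e ≪≫
    ((Dcoh.PushRestrict.pushMorphismRestrictIso f V).app A').symm⟩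

theorem nonempty_pullPow (F : X.Modules) (n : ℕ) :
    Nonempty ((Scheme.Modules.pullback f).obj (CohB1.tensorPow F n) ≅
      CohB1.tensorPow ((Scheme.Modules.pullback f).obj F) n) := by
  induction n with
  | zero => exact Ega3B.PullTensor.nonempty_pullUnitIso f
  | succ n ih =>
    obtain ⟨e⟩ := ih
    exact ⟨(show (Scheme.Modules.pullback f).obj (CohB1.tensorPow F (n + 1)) ≅
        CohB1.tensorMod ((Scheme.Modules.pullback f).obj (CohB1.tensorPow F n)) ((Scheme.Modules.pullback f).obj F) from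
      Krr.H482.PullTens.pullTensorIso f (CohB1.tensorPow F n) F) ≪≫ Ega2.Tens.mapTIso e (Iso.refl _)⟩

theorem isCoh_pow {F : X.Modules} (hF : Coh.IsCoh F) (n : ℕ) : Coh.IsCoh (CohB1.tensorPow F n) := by
  induction n with
  | zero => exact Fdesc.StructMod.isCoh_structureModule X
  | succ n ih => exact isCoh_tensor ih hF

theorem nonempty_restrict_pow {A B : Y.Modules} {W : Y.Opens} (e : A.restrict W.ι ≅ B.restrict W.ι) (n : ℕ) :
    Nonempty ((CohB1.tensorPow A n).restrict W.ι ≅ (CohB1.tensorPow B n).restrict W.ι) := by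
  obtain ⟨e1⟩ := Ega3B.TensRestrict.restrictPowIso W.ι A n
  obtain ⟨e2⟩ := Ega3B.TensRestrict.restrictPowIso W.ι B n
  have h : Nonempty (CohB1.tensorPow (A.restrict W.ι) n ≅ CohB1.tensorPow (B.restrict W.ι) n) := by
    clear e1 e2
    induction n with
    | zero => exact ⟨Iso.refl _⟩
    | succ n ih =>
      obtain ⟨e'⟩ := ih
      exact ⟨Ega2.Tens.mapTIso e' e⟩
  obtain ⟨e3⟩ := h
  exact ⟨e1 ≪≫ e3 ≪≫ e2.symm⟩

theorem good_pow (A : Type u) [CommRing A] [IsNoetherianRing A]
    (pX : X ⟶ Spec (CommRingCat.of A)) (pY : Y ⟶ Spec (CommRingCat.of A))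
    [IsProper pX] [IsProper pY] [IsProper f]
    (U : X.Opens) (hU : Dense (U : Set X)) (hU' : Dense ((f ⁻¹ᵁ U : Y.Opens) : Set Y)) (hiso : IsIso (f ∣_ U))
    (d : ℕ) (hd : 1 ≤ d) (hX : topologicalKrullDim X ≤ d) (hY : topologicalKrullDim Y ≤ d)
    (L : Y.Modules) (hL : CohB1.IsAmple L)
    (V : X.Opens) (hV : ∀ y : X, ringKrullDim (X.presheaf.stalk y) ≤ 1 → y ∈ V)
    (F : X.Modules) (hF : Coh.IsCoh F)
    (hFL : Nonempty (((Scheme.Modules.pullback f).obj F).restrict (f ⁻¹ᵁ V).ι ≅ L.restrict (f ⁻¹ᵁ V).ι))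
    (G : X.Modules) (hG : Coh.IsCoh G) : Dev.Good (fun n => CohB1.tensorPow F n) d G := by
  have hXl : IsLocallyNoetherian X := LocallyOfFiniteType.isLocallyNoetherian pX
  have hXc : CompactSpace X := QuasiCompact.compactSpace_of_compactSpace pX
  have hXN : IsNoetherian X := { }
  have hYl : IsLocallyNoetherian Y := LocallyOfFiniteType.isLocallyNoetherian pY
  have hYc : CompactSpace Y := QuasiCompact.compactSpace_of_compactSpace pY
  have hYN : IsNoetherian Y := { }
  have hgen : GenFin f := genFin_of_finite U hU' inferInstance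
  have hdim : ∀ j, 1 ≤ j → DimLt (fibLocus f j) (d - j) := dimLt_fibLocus hgen d hY
  obtain ⟨eFL⟩ := hFL
  have hM : Coh.IsCoh (Coh.structureModule Y) := Fdesc.StructMod.isCoh_structureModule Y
  have hcod : DimLt ((V : Set X)ᶜ) (d - 1) := K399.OffCodim2.dimLt_compl d hX V hV
  have hsurj : Function.Surjective f := by
    have h1 : (U : Set X) ⊆ Set.range f := by
      intro x hx
      obtain ⟨z, hz⟩ := (f ∣_ U).surjective ⟨x, hx⟩
      refine ⟨z.1, ?_⟩
      have h2 := morphismRestrict_base_coe f U z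
      rw [hz] at h2
      exact h2.symm
    have h2 : IsClosed (Set.range f) := f.isClosedMap.isClosed_range
    rw [← Set.range_eq_univ, ← h2.closure_eq]
    exact (hU.mono h1).closure_eq
  refine good_of_eval hX ((Coh.push f).obj (Coh.structureModule Y)) (isCoh_push f hM).1 (fun H hH => ?_)
    (fun ξ hξ => ?_) (fun Z i _ _ I hI hn => K798.ResEval.exists_eval _ (isCoh_push f hM) i I hI hn) G hG
  · have hN : Coh.IsCoh (CohB1.tensorMod (Coh.structureModule Y) ((Scheme.Modules.pullback f).obj H)) :=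
      isCoh_tensor hM (FormalA.PullbackQC.isCoh_pullback f H hH)
    obtain ⟨n₁, h1⟩ := K924.RelVan.exists_acyclic pX f L hL _ hN
    obtain ⟨n₂, h2⟩ := (Groth.Agent.S0051.result A Y pY L hL.1).1 hL _ hN
    refine ⟨max n₁ n₂, fun n hn i hi => ?_⟩
    have hn1 := h1 n ((le_max_left _ _).trans hn)
    have hn2 := h2 n ((le_max_right _ _).trans hn)
    -- the direct image of `N ⊗ L^n`
    have h3 : Subsingleton (Coh.HH X ((Coh.push f).obj (CohB1.tensorMod (CohB1.tensorMod (Coh.structureModule Y)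
        ((Scheme.Modules.pullback f).obj H)) (CohB1.tensorPow L n))) i) := by
      refine TopVan.reverse f _ i (hn2 i (by omega)) fun p q _ => ?_
      exact subsingleton_H_of_isZero (X := X.toTopCat) (hn1 (q + 1) (by omega)) p
    -- comparison over `V`
    obtain ⟨e1⟩ := nonempty_pullPow f F n
    obtain ⟨e2⟩ := nonempty_restrict_pow eFL n
    have e3 : CohB1.tensorMod (Coh.structureModule Y)
        ((Scheme.Modules.pullback f).obj (CohB1.tensorMod H (CohB1.tensorPow F n))) ≅
        CohB1.tensorMod (CohB1.tensorMod (Coh.structureModule Y) ((Scheme.Modules.pullback f).obj H))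
          (CohB1.tensorPow ((Scheme.Modules.pullback f).obj F) n) :=
      Ega2.Tens.mapTIso (Iso.refl _) ((show _ ≅ CohB1.tensorMod ((Scheme.Modules.pullback f).obj H)
        ((Scheme.Modules.pullback f).obj (CohB1.tensorPow F n)) from
          Krr.H482.PullTens.pullTensorIso f H (CohB1.tensorPow F n)) ≪≫ Ega2.Tens.mapTIso (Iso.refl _) e1) ≪≫
        (Ega2.Tens.assoc _ _ _).symm
    have e4 : (CohB1.tensorMod (CohB1.tensorMod (Coh.structureModule Y) ((Scheme.Modules.pullback f).obj H))
          (CohB1.tensorPow L n)).restrict (f ⁻¹ᵁ V).ι ≅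
        (CohB1.tensorMod (Coh.structureModule Y)
          ((Scheme.Modules.pullback f).obj (CohB1.tensorMod H (CohB1.tensorPow F n)))).restrict (f ⁻¹ᵁ V).ι :=
      (Ega1.TensorRestrict.tensorRestrictIso _ _ _).symm ≪≫ Ega2.Tens.mapTIso (Iso.refl _) e2.symm ≪≫
        Ega1.TensorRestrict.tensorRestrictIso _ _ _ ≪≫
        (Scheme.Modules.restrictFunctor (f ⁻¹ᵁ V).ι).mapIso e3.symm
    obtain ⟨e5⟩ := nonempty_push_restrict_iso f V e4
    have h4 := K399.OffCodim2.HH_of_restrict_iso d hd V hcod _ _ e5 i hi h3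
    have hE : Coh.IsCoh (CohB1.tensorMod H (CohB1.tensorPow F n)) := isCoh_tensor hH (isCoh_pow hF n)
    have h5 : Subsingleton (Coh.HH X (CohB1.tensorMod ((Coh.push f).obj (Coh.structureModule Y))
        (CohB1.tensorMod H (CohB1.tensorPow F n))) i) :=
      of_ker_coker (pj f _ _) i ((small_kernel f d hdim _ _ hE hM).HH i (by omega))
        (fun m hm => (small_cokernel f d hdim _ _ hE hM).HH m (by omega)) h4
    exact HH_iso (Ega2.Tens.assoc _ _ _).symm i h5
  · obtain ⟨y, rfl⟩ := hsurj ξ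
    refine nontrivial_push f _ hM y
      (nontrivial_stalk_of_isInvertible Fdesc.LocGen.isInvertible_structureModule y) fun h4 => hξ ?_
    refine ((hdim 1 le_rfl).of_le (by omega)).mono ?_
    exact closure_minimal (Set.singleton_subset_iff.2 h4) (isClosed_fibLocus f 1)

end K234.Final2
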