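import Groth.Agent.AbVar.K527.SuppVan
import Groth.Agent.VarietyA.StalkCrit
import Groth.Agent.CohqB.ToSheafExact
import Groth.Agent.CohqB.HSeqMod
import Groth.Agent.ResProp.K234.DimProper
import Groth.Agent.S0042

/-!
# Top cohomology and supports

* `Small M e`: the module `M` is supported on a closed set of dimension `< e`; then `H^p(X, M) = 0` for `p ≥ e`;
* `mid`, `left`, `right`: vanishing in short exact sequences;
* `of_coker`, `of_ker_coker`: transport of the vanishing of `H^n` along a map with small kernel or cokernel;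
* `leray`, `reverse`: for `f : Y ⟶ X`, `H^n(X, f_* N) = 0` and `H^n(Y, N) = 0` from each other, granted vanishing of
  the cohomology of the higher direct images.
-/

set_option autoImplicit false
universe u

open CategoryTheory Limits Opposite TopologicalSpace AlgebraicGeometry Abelian
open Groth.Agent.VarietyA.StalkCrit Groth.Agent.CycB.StalkExact
open Groth.Agent.CohtopB.TopPull
open K234.DimProper

namespace K234.TopVan

/-- A set of dimension `< e`. -/
def DimLt {X : Type*} [TopologicalSpace X] (T : Set X) (e : ℕ) : Prop :=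
  ∀ n : ℕ, (n : WithBot ℕ∞) ≤ topologicalKrullDim T → n < e

theorem DimLt.of_le {X : Type*} [TopologicalSpace X] {T : Set X} {e : ℕ} (h : DimLt T e) {e' : ℕ} (h' : e ≤ e') :
    DimLt T e' := fun n hn => (h n hn).trans_le h'

theorem DimLt.mono {X : Type*} [TopologicalSpace X] {T T' : Set X} {e : ℕ} (h : DimLt T e) (h' : T' ⊆ T) :
    DimLt T' e := by
  intro n hn
  refine h n (hn.trans ?_)
  exact (Topology.IsEmbedding.inclusion h').isInducing.topologicalKrullDim_le

theorem DimLt.le_pred {X : Type*} [TopologicalSpace X] {T : Set X} {e : ℕ} (h : DimLt T e) :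
    topologicalKrullDim T ≤ pred e :=
  (not_le_iff _ _).1 fun he => absurd (h e he) (lt_irrefl _)

theorem dimLt_of_le {X : Type*} [TopologicalSpace X] {T : Set X} {d : ℕ} (h : topologicalKrullDim T ≤ d) :
    DimLt T (d + 1) := by
  intro n hn
  have h1 : (n : WithBot ℕ∞) ≤ (d : WithBot ℕ∞) := hn.trans h
  have h2 : n ≤ d := by exact_mod_cast h1
  omega

theorem DimLt.eq_empty {X : Type*} [TopologicalSpace X] {T : Set X} (h : DimLt T 0) : T = ∅ := by
  by_contra hT
  obtain ⟨x, hx⟩ := Set.nonempty_iff_ne_empty.2 hT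
  have h0 : ((0 : ℕ) : WithBot ℕ∞) ≤ topologicalKrullDim T := by
    rw [topologicalKrullDim]
    have : Nonempty (IrreducibleCloseds T) :=
      ⟨⟨closure {⟨x, hx⟩}, isIrreducible_singleton.closure, isClosed_closure⟩⟩
    exact Order.krullDim_nonneg
  exact absurd (h 0 h0) (lt_irrefl _)

/-- Union of two closed sets of dimension `< e`. -/
theorem DimLt.union {X : Type*} [TopologicalSpace X] {T T' : Set X} {e : ℕ} (h : DimLt T e) (h' : DimLt T' e)
    (hT : IsClosed T) (hT' : IsClosed T') : DimLt (T ∪ T') e := by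
  intro n hn
  obtain ⟨p, hp, hpS⟩ := (le_dim_iff _ n).1 hn
  have hle : (p.last : Set X) ⊆ T ∪ T' := by
    intro x hx
    have h2 : (x : X) ∈ closure ((p (Fin.last _) : Set X) ∩ (T ∪ T')) := by rw [hpS]; exact hx
    exact closure_minimal Set.inter_subset_right (hT.union hT') h2
  have hirr := p.last.isIrreducible
  have hmono : ∀ i, p i ≤ p.last := fun i => LTSeries.monotone p (Fin.le_last i)
  rcases (isPreirreducible_iff_isClosed_union_isClosed.1 hirr.isPreirreducible) T T' hT hT' hle with h1 | h1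
  · refine h n ((le_dim_iff _ n).2 ⟨p, hp, fun i => ?_⟩)
    rw [Set.inter_eq_left.2 (show (p i : Set X) ⊆ T from fun x hx => h1 (hmono i hx))]
    exact (p i).isClosed.closure_eq
  · refine h' n ((le_dim_iff _ n).2 ⟨p, hp, fun i => ?_⟩)
    rw [Set.inter_eq_left.2 (show (p i : Set X) ⊆ T' from fun x hx => h1 (hmono i hx))]
    exact (p i).isClosed.closure_eq

theorem subsingleton_H {Y : TopCat.{u}} [NoetherianSpace Y] (F : CohTop.Ab Y) (T : Set Y) (hT : IsClosed T) (e : ℕ)
    (he : DimLt T e) (h : ∀ y, y ∉ T → Subsingleton (CohTop.stalk F y)) (p : ℕ) (hp : e ≤ p) :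
    Subsingleton (CohTop.H F p) := by
  cases e with
  | zero =>
    have hT := he.eq_empty
    exact K527.SuppVan.subsingleton_H_of_stalks F (fun y => h y (by simp [hT])) p
  | succ e =>
    exact Groth.Agent.CohqB.SuppVanish.subsingleton_H_of_support T hT e he.le_pred F h p (by omega)

variable {X Y : Scheme.{u}}

/-- The module `M` is supported on a closed set of dimension `< e`. -/
def Small (M : X.Modules) (e : ℕ) : Prop :=
  ∃ T : Set X, IsClosed T ∧ DimLt T e ∧ ∀ x, x ∉ T → Subsingleton (M.presheaf.stalk x)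

theorem Small.of_le {M : X.Modules} {e : ℕ} (h : Small M e) {e' : ℕ} (h' : e ≤ e') : Small M e' := by
  obtain ⟨T, hT, h1, h2⟩ := h
  exact ⟨T, hT, h1.of_le h', h2⟩

theorem Small.of_mono {M N : X.Modules} {e : ℕ} (h : Small N e) (φ : M ⟶ N) [Mono φ] : Small M e := by
  obtain ⟨T, hT, h1, h2⟩ := h
  exact ⟨T, hT, h1, fun x hx => by have := h2 x hx; exact (stalkLin_injective φ x).subsingleton⟩

theorem Small.of_epi {M N : X.Modules} {e : ℕ} (h : Small M e) (φ : M ⟶ N) [Epi φ] : Small N e := by
  obtain ⟨T, hT, h1, h2⟩ := h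
  exact ⟨T, hT, h1, fun x hx => by have := h2 x hx; exact (stalkLin_surjective φ x).subsingleton⟩

theorem Small.HH [NoetherianSpace X] {M : X.Modules} {e : ℕ} (h : Small M e) (p : ℕ) (hp : e ≤ p) :
    Subsingleton (Coh.HH X M p) := by
  obtain ⟨T, hT, h1, h2⟩ := h
  have : NoetherianSpace X.toTopCat := ‹NoetherianSpace X›
  exact subsingleton_H (Y := X.toTopCat) (Coh.toAb M) T hT e h1 h2 p hp

theorem small_top (M : X.Modules) (d : ℕ) (hd : topologicalKrullDim X ≤ d) : Small M (d + 1) := by
  refine ⟨Set.univ, isClosed_univ, dimLt_of_le ?_, fun x hx => absurd trivial hx⟩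
  exact (topologicalKrullDim_subspace_le _ _).trans hd

/-- The constant sheaf `ℤ`. -/
noncomputable abbrev ZZ (X : Scheme.{u}) : Sheaf (Opens.grothendieckTopology X) AddCommGrpCat.{u} :=
  Groth.Agent.CohtopA.PushClosed.ZZ X.toTopCat

open Groth.Agent.CohqB.ToSheafExact Groth.Agent.EtpbcA

section ses

variable {S : ShortComplex X.Modules} (hS : S.ShortExact) (n : ℕ)

include hS

theorem mid (h1 : Subsingleton (Coh.HH X S.X₁ n)) (h3 : Subsingleton (Coh.HH X S.X₃ n)) :
    Subsingleton (Coh.HH X S.X₂ n) := by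
  refine subsingleton_of_forall_eq 0 fun x => ?_
  obtain ⟨y, rfl⟩ := Groth.Agent.CohqB.HSeqMod.exact₂ hS n x (Subsingleton.elim _ _)
  rw [Subsingleton.elim y 0, map_zero]

theorem left (h3 : Subsingleton (Coh.HH X S.X₃ n)) (h2 : Subsingleton (Coh.HH X S.X₂ (n + 1))) :
    Subsingleton (Coh.HH X S.X₁ (n + 1)) := by
  refine subsingleton_of_forall_eq 0 fun x => ?_
  obtain ⟨y, rfl⟩ := Groth.Agent.CohqB.HSeqMod.exact₁ hS n x (Subsingleton.elim _ _)
  rw [Subsingleton.elim y 0, map_zero]

theorem right (h2 : Subsingleton (Coh.HH X S.X₂ n)) (h1 : Subsingleton (Coh.HH X S.X₁ (n + 1))) :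
    Subsingleton (Coh.HH X S.X₃ n) := by
  refine subsingleton_of_forall_eq 0 fun x => ?_
  obtain ⟨y, rfl⟩ := Groth.Agent.CohqB.HSeqMod.exact₃ hS n x (Subsingleton.elim _ _)
  rw [Subsingleton.elim y 0, map_zero]

end ses

theorem HH_iso {M N : X.Modules} (e : M ≅ N) (n : ℕ) (h : Subsingleton (Coh.HH X M n)) :
    Subsingleton (Coh.HH X N n) :=
  CdLeray.subsingleton_ext_of_iso.{u} (ZZ X) ((toAbF X).mapIso e) n h

/-- `H^0` of a submodule. -/
theorem HH_zero_of_mono {M N : X.Modules} (φ : M ⟶ N) [Mono φ] (h : Subsingleton (Coh.HH X N 0)) :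
    Subsingleton (Coh.HH X M 0) := by
  have hm : Mono ((toAbF X).map φ) := inferInstance
  have hN : Subsingleton (Ext.{u} (ZZ X) ((toAbF X).obj N) 0) := h
  have hM : Subsingleton (Ext.{u} (ZZ X) ((toAbF X).obj M) 0) := by
    refine subsingleton_of_forall_eq 0 fun x => ?_
    obtain ⟨f, rfl⟩ := Ext.addEquiv₀.symm.surjective x
    have h1 : f ≫ (toAbF X).map φ = 0 := by
      apply (Ext.mk₀_bijective _ _).1
      exact @Subsingleton.elim _ hN _ _
    have h2 : f = 0 := by rw [← cancel_mono ((toAbF X).map φ), h1, zero_comp]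
    rw [h2, map_zero]
  exact hM

theorem shortExact_image_kernel {M N : X.Modules} (φ : M ⟶ N) :
    (ShortComplex.mk (kernel.ι φ) (Abelian.factorThruImage φ)
      (by rw [← cancel_mono (Abelian.image.ι φ), Category.assoc, Abelian.image.fac, kernel.condition,
        zero_comp])).ShortExact := by
  refine ShortComplex.ShortExact.mk' ?_ inferInstance inferInstance
  let α : ShortComplex.mk (kernel.ι φ) (Abelian.factorThruImage φ)
      (by rw [← cancel_mono (Abelian.image.ι φ), Category.assoc, Abelian.image.fac, kernel.condition,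
        zero_comp]) ⟶ ShortComplex.mk (kernel.ι φ) φ (kernel.condition φ) :=
    { τ₁ := 𝟙 _
      τ₂ := 𝟙 _
      τ₃ := Abelian.image.ι φ
      comm₁₂ := (Category.id_comp _).trans (Category.comp_id _).symm
      comm₂₃ := (Category.id_comp _).trans (Abelian.image.fac φ).symm }
  have : Mono α.τ₃ := inferInstanceAs (Mono (Abelian.image.ι φ))
  have : IsIso α.τ₂ := inferInstanceAs (IsIso (𝟙 _))
  have : Epi α.τ₁ := inferInstanceAs (Epi (𝟙 _))
  exact (ShortComplex.exact_iff_of_epi_of_isIso_of_mono α).2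
    (ShortComplex.exact_of_f_is_kernel _ (kernelIsKernel _))

theorem shortExact_image_cokernel {M N : X.Modules} (φ : M ⟶ N) :
    (ShortComplex.mk (Abelian.image.ι φ) (cokernel.π φ) (kernel.condition _)).ShortExact :=
  ShortComplex.ShortExact.mk' (ShortComplex.exact_of_f_is_kernel _ (kernelIsKernel _)) inferInstance inferInstance

/-- The vanishing of `H^n` goes to the target of a map with small cokernel. -/
theorem of_coker {M N : X.Modules} (φ : M ⟶ N) (n : ℕ) (hc : Subsingleton (Coh.HH X (cokernel φ) n))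
    (hk : Subsingleton (Coh.HH X (kernel φ) (n + 1))) (h : Subsingleton (Coh.HH X M n)) :
    Subsingleton (Coh.HH X N n) :=
  mid (shortExact_image_cokernel φ) n (right (shortExact_image_kernel φ) n h hk) hc

/-- The vanishing of `H^n` goes to the source of a map with small kernel and cokernel. -/
theorem of_ker_coker {M N : X.Modules} (φ : M ⟶ N) (n : ℕ) (hk : Subsingleton (Coh.HH X (kernel φ) n))
    (hc : ∀ m, m + 1 = n → Subsingleton (Coh.HH X (cokernel φ) m)) (h : Subsingleton (Coh.HH X N n)) :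
    Subsingleton (Coh.HH X M n) := by
  refine mid (shortExact_image_kernel φ) n hk ?_
  cases n with
  | zero => exact HH_zero_of_mono (Abelian.image.ι φ) h
  | succ n => exact left (shortExact_image_cokernel φ) n (hc n rfl) h

section leray

variable (f : Y ⟶ X)

theorem leray (N : Y.Modules) (n : ℕ) (h0 : Subsingleton (Coh.HH X ((Coh.push f).obj N) n))
    (h : ∀ p q, p + (q + 1) = n → Subsingleton
      (CohTop.H (X := X.toTopCat) ((CohTop.Rpush (X := Y.toTopCat) (Y := X.toTopCat) f.base (q + 1)).obj (Coh.toAb N)) p)) :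
    Subsingleton (Coh.HH Y N n) :=
  K527.SuppVan.subsingleton_H_of_leray (X := Y.toTopCat) (Y := X.toTopCat) f.base (Coh.toAb N) n h0 h

theorem reverse (N : Y.Modules) (n : ℕ) (h0 : Subsingleton (Coh.HH Y N n))
    (h : ∀ p q, p + (q + 1) + 1 = n → Subsingleton
      (CohTop.H (X := X.toTopCat) ((CohTop.Rpush (X := Y.toTopCat) (Y := X.toTopCat) f.base (q + 1)).obj (Coh.toAb N)) p)) :
    Subsingleton (Coh.HH X ((Coh.push f).obj N) n) := by
  let ad := adj (X := Y.toTopCat) (Y := X.toTopCat) f.base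
  let P := Groth.Agent.CohtopA.PushClosed.ZZ X.toTopCat
  have h0' : Subsingleton (Ext.{u} ((CohTop.pull (X := Y.toTopCat) (Y := X.toTopCat) f.base).obj P) (Coh.toAb N) n) :=
    (Groth.Agent.CohtopA.HTop.extPrecompIso.{u}
      (Groth.Agent.CohtopA.PushClosed.pullConstIso (X := Y.toTopCat) (Y := X.toTopCat) f.base)
        (Coh.toAb N) n).toEquiv.subsingleton_congr.1 h0
  have key : Subsingleton (Ext.{u} P ((CohTop.push (X := Y.toTopCat) (Y := X.toTopCat) f.base).obj (Coh.toAb N)) n) := by
    cases n with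
    | zero =>
      refine subsingleton_of_forall_eq 0 fun x => ?_
      obtain ⟨g, rfl⟩ := Ext.addEquiv₀.symm.surjective x
      have h1 : (ad.homEquiv _ _).symm g = (ad.homEquiv _ _).symm 0 := by
        apply (Ext.mk₀_bijective _ _).1
        exact @Subsingleton.elim _ h0' _ _
      have h2 : g = 0 := (ad.homEquiv _ _).symm.injective h1
      rw [h2, map_zero]
    | succ n =>
      exact CdLeray.ext_subsingleton_of_reverse.{u, u} ad P n (Coh.toAb N) h0' fun p q hpq => h p q (by omega)
  exact key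

variable [IsProper f] [IsNoetherian X] (d : ℕ)
  (hdim : ∀ j, 1 ≤ j → DimLt (fibLocus f j) (d - j))

include hdim in
/-- `H^n(Y, N) = 0` from `H^n(X, f_* N) = 0`, `n ≥ d`. -/
theorem leray_top {N : Y.Modules} (hN : Coh.IsCoh N) (n : ℕ) (hn : d ≤ n)
    (h0 : Subsingleton (Coh.HH X ((Coh.push f).obj N) n)) : Subsingleton (Coh.HH Y N n) := by
  refine leray f N n h0 fun p q hpq => ?_
  have : NoetherianSpace X.toTopCat := inferInstanceAs (NoetherianSpace X)
  refine subsingleton_H (Y := X.toTopCat) _ (fibLocus f (q + 1)) (isClosed_fibLocus f (q + 1)) (d - (q + 1))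
    (hdim (q + 1) (by omega)) ?_ p (by omega)
  intro x hx
  exact AddCommGrpCat.subsingleton_of_isZero
    (Groth.Agent.S0042.result f x q (dim_fiber_le f hx) N hN (q + 1) (by omega))

include hdim in
/-- `H^n(X, f_* N) = 0` from `H^n(Y, N) = 0`, `n ≥ d`, if `R^{q+1} f_* N` lives on the points of fibre dimension `> q + 1`. -/
theorem reverse_top {N : Y.Modules} (n : ℕ) (hn : d ≤ n)
    (hN : ∀ (q : ℕ) (x : X), x ∉ fibLocus f (q + 2) → Subsingleton (CohTop.stalk (X := X.toTopCat)
      ((CohTop.Rpush (X := Y.toTopCat) (Y := X.toTopCat) f.base (q + 1)).obj (Coh.toAb N)) x))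
    (h0 : Subsingleton (Coh.HH Y N n)) : Subsingleton (Coh.HH X ((Coh.push f).obj N) n) := by
  refine reverse f N n h0 fun p q hpq => ?_
  have : NoetherianSpace X.toTopCat := inferInstanceAs (NoetherianSpace X)
  exact subsingleton_H (Y := X.toTopCat) _ (fibLocus f (q + 2)) (isClosed_fibLocus f (q + 2)) (d - (q + 2))
    (hdim (q + 2) (by omega)) (hN q) p (by omega)

end leray

end K234.TopVan
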